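import Mathlib
import Cfsg.Agent.Lib.Helper5.QuadFin

set_option autoImplicit false

/-! Eichler (Siegel) transformations of an abstract quadratic space. -/

namespace Cfsg.Agent.Lib.Helper5.GInv

open Module QuadraticMap

section Eich
variable {k : Type*} [Field k] {W : Type*} [AddCommGroup W] [Module k W]
variable (Q : QuadraticForm k W)

/-- the Eichler transformation attached to a singular vector `e` and a vector `u` orthogonal
to it -/
def eich (e u : W) : W →ₗ[k] W :=
  LinearMap.id + (polarBilin Q e).smulRight u - (polarBilin Q u).smulRight e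
    - (Q u) • (polarBilin Q e).smulRight e

theorem eich_apply (e u x : W) :
    eich Q e u x = x + polar Q e x • u - polar Q u x • e - (Q u * polar Q e x) • e := by
  simp only [eich, LinearMap.sub_apply, LinearMap.add_apply, LinearMap.id_coe, id_eq,
    LinearMap.smulRight_apply, LinearMap.smul_apply, polarBilin_apply_apply, mul_smul]

theorem eich_apply' (e u x : W) :
    eich Q e u x = (1 : k) • x + polar Q e x • u + (-(polar Q u x + Q u * polar Q e x)) • e := by
  rw [eich_apply, one_smul, neg_smul, add_smul]
  abel

theorem polar_self_sing {e : W} (he : Q e = 0) : polar Q e e = 0 :=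
  polar_self_of_singular Q he

/-- Eichler transformations are isometries -/
theorem Q_eich {e u : W} (he : Q e = 0) (heu : polar Q e u = 0) (x : W) :
    Q (eich Q e u x) = Q x := by
  rw [eich_apply', map_lin3, he, polar_comm Q x e, polar_comm Q x u, polar_comm Q u e, heu]
  ring

theorem polar_eich {e u : W} (he : Q e = 0) (heu : polar Q e u = 0) (x y : W) :
    polar Q (eich Q e u x) (eich Q e u y) = polar Q x y := by
  unfold polar
  rw [← map_add, Q_eich Q he heu, Q_eich Q he heu, Q_eich Q he heu]

theorem polar_e_eich {e u : W} (he : Q e = 0) (heu : polar Q e u = 0) (x : W) :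
    polar Q e (eich Q e u x) = polar Q e x := by
  rw [eich_apply, polar_sub_right, polar_sub_right, polar_add_right, polar_smul_right,
    polar_smul_right, polar_smul_right, heu, polar_self_sing Q he]
  simp

theorem eich_e {e u : W} (he : Q e = 0) (heu : polar Q e u = 0) : eich Q e u e = e := by
  rw [eich_apply, polar_self_sing Q he, polar_comm Q u e, heu]
  simp

theorem eich_zero (e : W) : eich Q e 0 = LinearMap.id := by
  ext x
  rw [eich_apply]
  simp

/-- Eichler transformations with the same centre compose additively -/
theorem eich_comp {e u u' : W} (he : Q e = 0) (heu : polar Q e u = 0)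
    (heu' : polar Q e u' = 0) (x : W) :
    eich Q e u' (eich Q e u x) = eich Q e (u + u') x := by
  rw [eich_apply Q e u' (eich Q e u x), polar_e_eich Q he heu]
  have h1 : polar Q u' (eich Q e u x) = polar Q u' x + polar Q e x * polar Q u' u := by
    rw [eich_apply, polar_sub_right, polar_sub_right, polar_add_right, polar_smul_right,
      polar_smul_right, polar_smul_right, polar_comm Q u' e, heu']
    simp
  rw [h1, eich_apply, eich_apply, polar_add_left, QuadraticMap.map_add (⇑Q),
    polar_comm Q u' u]
  module

/-- the Eichler transformation as a linear equivalence -/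
def eichE (e u : W) (he : Q e = 0) (heu : polar Q e u = 0) : W ≃ₗ[k] W :=
  LinearEquiv.ofLinear (eich Q e u) (eich Q e (-u))
    (by
      ext x
      have h' : polar Q e (-u) = 0 := by rw [polar_neg_right, heu, neg_zero]
      rw [LinearMap.comp_apply, eich_comp Q he h' heu, neg_add_cancel, eich_zero])
    (by
      ext x
      have h' : polar Q e (-u) = 0 := by rw [polar_neg_right, heu, neg_zero]
      rw [LinearMap.comp_apply, eich_comp Q he heu h', add_neg_cancel, eich_zero])

@[simp] theorem eichE_apply (e u : W) (he : Q e = 0) (heu : polar Q e u = 0) (x : W) :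
    eichE Q e u he heu x = eich Q e u x := rfl

theorem eichE_symm_apply (e u : W) (he : Q e = 0) (heu : polar Q e u = 0) (x : W) :
    (eichE Q e u he heu).symm x = eich Q e (-u) x := rfl

/-- an Eichler transformation is the square of another one -/
theorem eich_half (h2 : (2 : k) ≠ 0) {e u : W} (he : Q e = 0) (heu : polar Q e u = 0) (x : W) :
    eich Q e ((2 : k)⁻¹ • u) (eich Q e ((2 : k)⁻¹ • u) x) = eich Q e u x := by
  have h' : polar Q e ((2 : k)⁻¹ • u) = 0 := by rw [polar_smul_right, heu, smul_zero]
  rw [eich_comp Q he h' h', ← add_smul]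
  have : (2 : k)⁻¹ + (2 : k)⁻¹ = 1 := by field_simp; norm_num
  rw [this, one_smul]

/-- the Eichler transformation moving one hyperbolic partner of `e` to another -/
theorem eich_partner {e f₁ f₂ : W} (hf₁ : Q f₁ = 0) (hf₂ : Q f₂ = 0)
    (h1 : polar Q e f₁ = 1) (h2 : polar Q e f₂ = 1) :
    eich Q e (f₂ - f₁) f₁ = f₂ := by
  have hQ : Q (f₂ - f₁) = -polar Q f₂ f₁ := by
    have h3 : f₂ - f₁ = (1 : k) • f₂ + (-1 : k) • f₁ := by rw [one_smul, neg_one_smul]; abel
    rw [h3, map_lin2, hf₁, hf₂]
    ring
  rw [eich_apply, h1, hQ, polar_sub_left, polar_self_sing Q hf₁]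
  module

/-- the square of the nilpotent part of an Eichler transformation -/
theorem eich_sub_sq {e u : W} (he : Q e = 0) (heu : polar Q e u = 0) (x : W) :
    eich Q e u (eich Q e u x - x) - (eich Q e u x - x) = (-(2 * Q u * polar Q e x)) • e := by
  have h1 : eich Q e u x - x = polar Q e x • u + (-(polar Q u x + Q u * polar Q e x)) • e := by
    rw [eich_apply']
    module
  rw [h1, map_add, map_smul, map_smul, eich_e Q he heu, eich_apply Q e u u, heu,
    QuadraticMap.polar_self]
  simp only [smul_eq_mul, nsmul_eq_mul, Nat.cast_ofNat]
  module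

/-- the second vector fixed: `e'` orthogonal to `z` and `u` is fixed by the Eichler
transformation with centre `z` -/
theorem eich_fix {z u x : W} (h1 : polar Q z x = 0) (h2 : polar Q u x = 0) :
    eich Q z u x = x := by
  rw [eich_apply, h1, h2]
  simp

theorem polar_eich_self {z u x : W} (hx : Q x = 0) (hzx : polar Q z x = 1) :
    polar Q (eich Q z u x) x = -Q u := by
  rw [eich_apply, hzx, polar_sub_left, polar_sub_left, polar_add_left, polar_smul_left,
    polar_smul_left, polar_smul_left, polar_self_sing Q hx, hzx]
  simp only [smul_eq_mul]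
  ring

end Eich

end Cfsg.Agent.Lib.Helper5.GInv
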