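import Mathlib
import Cfsg.Agent.Lib.Helper5.GInv.Eich

set_option autoImplicit false

/-! The number of singular points of a nondegenerate quadratic space over a finite field of
odd characteristic is even. -/

namespace Cfsg.Agent.Lib.Helper5.GInv

open Module QuadraticMap

section Comb

/-- a finite set with commuting involutions without a common fixed point has even cardinality -/
theorem even_card_of_comm_invol {X : Type*} [Fintype X] [DecidableEq X] (n : ℕ)
    (σ : Fin n → X → X) (hinv : ∀ i x, σ i (σ i x) = x)
    (hcomm : ∀ i j x, σ i (σ j x) = σ j (σ i x)) (hfix : ∀ x, ∃ i, σ i x ≠ x) :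
    Even (Fintype.card X) := by
  classical
  have hne : ∀ x, (Finset.univ.filter fun i => σ i x ≠ x).Nonempty := by
    intro x
    obtain ⟨i, hi⟩ := hfix x
    exact ⟨i, Finset.mem_filter.2 ⟨Finset.mem_univ _, hi⟩⟩
  set idx : X → Fin n := fun x => (Finset.univ.filter fun i => σ i x ≠ x).min' (hne x) with hidx
  have h1 : ∀ x, σ (idx x) x ≠ x := by
    intro x
    exact (Finset.mem_filter.1 (Finset.min'_mem _ (hne x))).2
  have h2 : ∀ x j, j < idx x → σ j x = x := by
    intro x j hj
    by_contra hcon
    have := Finset.min'_le (Finset.univ.filter fun i => σ i x ≠ x) j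
      (Finset.mem_filter.2 ⟨Finset.mem_univ _, hcon⟩)
    exact absurd (lt_of_lt_of_le hj this) (lt_irrefl _)
  have h3 : ∀ x, idx (σ (idx x) x) = idx x := by
    intro x
    apply le_antisymm
    · apply Finset.min'_le
      rw [Finset.mem_filter]
      refine ⟨Finset.mem_univ _, ?_⟩
      rw [hinv]
      exact fun h => h1 x h.symm
    · by_contra hcon
      rw [not_le] at hcon
      have h4 := h1 (σ (idx x) x)
      apply h4
      rw [hcomm, h2 x _ hcon]
  set f : X → X := fun x => σ (idx x) x with hf
  have hfinv : Function.Involutive f := by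
    intro x
    show σ (idx (σ (idx x) x)) (σ (idx x) x) = x
    rw [h3, hinv]
  have hsupp : (hfinv.toPerm f).support = Finset.univ := by
    ext x
    simp only [Equiv.Perm.mem_support, Finset.mem_univ, iff_true]
    exact h1 x
  have h5 : (hfinv.toPerm f) ^ 2 = 1 := by
    ext x
    rw [pow_two, Equiv.Perm.mul_apply]
    exact hfinv x
  have h6 := Equiv.Perm.two_dvd_card_support h5
  rw [hsupp, Finset.card_univ] at h6
  exact even_iff_two_dvd.2 h6

end Comb

section Refl
variable {k : Type*} [Field k] {W : Type*} [AddCommGroup W] [Module k W]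
variable (Q : QuadraticForm k W)

/-- the reflection in a nonsingular vector -/
def rfl' (v : W) : W →ₗ[k] W :=
  LinearMap.id - (Q v)⁻¹ • (polarBilin Q v).smulRight v

theorem rfl'_apply (v x : W) : rfl' Q v x = x - ((Q v)⁻¹ * polar Q v x) • v := by
  simp only [rfl', LinearMap.sub_apply, LinearMap.id_coe, id_eq, LinearMap.smul_apply,
    LinearMap.smulRight_apply, polarBilin_apply_apply, mul_smul]

theorem polar_rfl' {v : W} (hv : Q v ≠ 0) (x : W) : polar Q v (rfl' Q v x) = -polar Q v x := by
  rw [rfl'_apply, polar_sub_right, polar_smul_right, QuadraticMap.polar_self]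
  simp only [smul_eq_mul, nsmul_eq_mul, Nat.cast_ofNat]
  field_simp
  ring

theorem rfl'_rfl' {v : W} (hv : Q v ≠ 0) (x : W) : rfl' Q v (rfl' Q v x) = x := by
  rw [rfl'_apply Q v (rfl' Q v x), polar_rfl' Q hv, rfl'_apply]
  module

theorem Q_rfl' {v : W} (hv : Q v ≠ 0) (x : W) : Q (rfl' Q v x) = Q x := by
  have h1 : rfl' Q v x = (1 : k) • x + (-((Q v)⁻¹ * polar Q v x)) • v := by
    rw [rfl'_apply]
    module
  rw [h1, map_lin2, polar_comm Q x v]
  field_simp
  ring

theorem rfl'_comm {v w : W} (hvw : polar Q v w = 0) (x : W) :
    rfl' Q v (rfl' Q w x) = rfl' Q w (rfl' Q v x) := by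
  have hwv : polar Q w v = 0 := by rw [polar_comm]; exact hvw
  rw [rfl'_apply Q v (rfl' Q w x), rfl'_apply Q w (rfl' Q v x), rfl'_apply Q w x,
    rfl'_apply Q v x, polar_sub_right, polar_sub_right, polar_smul_right, polar_smul_right,
    hvw, hwv]
  simp only [smul_zero, sub_zero]
  abel

end Refl

section Points
variable {k : Type*} [Field k] {W : Type*} [AddCommGroup W] [Module k W]
variable (Q : QuadraticForm k W)

/-- singular points -/
def IsSingPt (P : Submodule k W) : Prop := ∃ e : W, e ≠ 0 ∧ Q e = 0 ∧ P = Submodule.span k {e}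

/-- a pairwise orthogonal family of nonsingular vectors whose number is the dimension has
trivial orthogonal complement -/
theorem eq_zero_of_orth_family [FiniteDimensional k W] (h2 : (2 : k) ≠ 0)
    (hQ : (polarBilin Q).Nondegenerate) {n : ℕ} (hn : finrank k W = n) (b : Fin n → W)
    (hb : ∀ i j, i ≠ j → polar Q (b i) (b j) = 0) (hb0 : ∀ i, Q (b i) ≠ 0) (e : W)
    (he : ∀ i, polar Q (b i) e = 0) : e = 0 := by
  classical
  have hli : LinearIndependent k b := by
    rw [Fintype.linearIndependent_iff]
    intro c hc j
    have h1 : polar Q (b j) (∑ i, c i • b i) = c j * (2 * Q (b j)) := by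
      rw [polar_sum_right, Finset.sum_eq_single j]
      · rw [QuadraticMap.polar_self]
        simp
      · intro i _ hij
        rw [hb j i (Ne.symm hij), mul_zero]
      · intro h
        exact absurd (Finset.mem_univ j) h
    rw [hc] at h1
    have h3 : polar Q (b j) 0 = 0 := by simp [polar]
    rw [h3] at h1
    rcases mul_eq_zero.1 h1.symm with h | h
    · exact h
    · exact absurd h (mul_ne_zero h2 (hb0 j))
  have hspan : Submodule.span k (Set.range b) = ⊤ :=
    hli.span_eq_top_of_card_eq_finrank' (by rw [Fintype.card_fin, hn])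
  apply hQ.1 e
  intro y
  have hy : y ∈ Submodule.span k (Set.range b) := by rw [hspan]; trivial
  show polar Q e y = 0
  induction hy using Submodule.span_induction with
  | mem y hy =>
    obtain ⟨i, rfl⟩ := hy
    rw [polar_comm]
    exact he i
  | zero => simp [polar]
  | add a b _ _ ha hb => rw [polar_add_right, ha, hb, add_zero]
  | smul c a _ ha => rw [polar_smul_right, ha, smul_zero]

end Points

section Main
variable {k : Type*} [Field k] [Finite k] {W : Type*} [AddCommGroup W] [Module k W]
variable [FiniteDimensional k W] (Q : QuadraticForm k W)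

theorem finite_submodule : Finite (Submodule k W) := by
  haveI : Finite W := Module.finite_of_finite k
  exact Finite.of_injective (fun P : Submodule k W => (P : Set W)) SetLike.coe_injective

/-- the number of singular points is even -/
theorem even_card_singPts (h2 : (2 : k) ≠ 0) (hQ : (polarBilin Q).Nondegenerate) :
    Even (Nat.card {P : Submodule k W // IsSingPt Q P}) := by
  classical
  haveI : Finite (Submodule k W) := finite_submodule
  haveI : Fintype {P : Submodule k W // IsSingPt Q P} := Fintype.ofFinite _
  rw [Nat.card_eq_fintype_card]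
  rcases Nat.eq_zero_or_pos (finrank k W) with h0 | hpos
  · have hemp : IsEmpty {P : Submodule k W // IsSingPt Q P} := by
      refine ⟨fun P => ?_⟩
      obtain ⟨e, he0, -, -⟩ := P.2
      haveI := finrank_zero_iff.1 h0
      exact he0 (Subsingleton.elim _ _)
    rw [Fintype.card_eq_zero]
    exact ⟨0, rfl⟩
  · obtain ⟨n, hn⟩ : ∃ n, finrank k W = n + 1 := ⟨finrank k W - 1, by omega⟩
    obtain ⟨b, hb1, hb2, hb3⟩ := exists_orthogonal_family_aux h2 n W Q hQ hn
    have hb0 : ∀ i, Q (b i) ≠ 0 := by
      intro i
      by_cases hi : i = Fin.last n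
      · rw [hi]; exact hb3
      · rw [hb2 i hi]; exact one_ne_zero
    let σ : Fin (n + 1) → {P : Submodule k W // IsSingPt Q P} →
        {P : Submodule k W // IsSingPt Q P} := fun i P =>
      ⟨P.1.map (rfl' Q (b i)), by
        obtain ⟨e, he0, he, hP⟩ := P.2
        refine ⟨rfl' Q (b i) e, ?_, ?_, ?_⟩
        · intro h
          apply he0
          have := congrArg (rfl' Q (b i)) h
          rw [rfl'_rfl' Q (hb0 i), map_zero] at this
          exact this
        · rw [Q_rfl' Q (hb0 i)]
          exact he
        · rw [hP, Submodule.map_span, Set.image_singleton]⟩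
    apply even_card_of_comm_invol (n + 1) σ
    · intro i P
      apply Subtype.ext
      show (P.1.map (rfl' Q (b i))).map (rfl' Q (b i)) = P.1
      rw [← Submodule.map_comp]
      have : (rfl' Q (b i)).comp (rfl' Q (b i)) = LinearMap.id := by
        ext x
        exact rfl'_rfl' Q (hb0 i) x
      rw [this, Submodule.map_id]
    · intro i j P
      apply Subtype.ext
      show (P.1.map (rfl' Q (b j))).map (rfl' Q (b i)) =
        (P.1.map (rfl' Q (b i))).map (rfl' Q (b j))
      rw [← Submodule.map_comp, ← Submodule.map_comp]
      congr 1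
      ext x
      by_cases hij : i = j
      · rw [hij]
      · exact rfl'_comm Q (hb1 i j hij) x
    · intro P
      by_contra hcon
      push Not at hcon
      obtain ⟨e, he0, he, hP⟩ := P.2
      apply he0
      apply eq_zero_of_orth_family Q h2 hQ hn b hb1 hb0 e
      intro i
      have h1 : P.1.map (rfl' Q (b i)) = P.1 := congrArg Subtype.val (hcon i)
      have h3 : rfl' Q (b i) e ∈ P.1 := by
        rw [← h1]
        apply Submodule.mem_map_of_mem
        rw [hP]
        exact Submodule.mem_span_singleton_self e
      rw [hP, Submodule.mem_span_singleton] at h3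
      obtain ⟨l, hl⟩ := h3
      by_contra hne
      rw [rfl'_apply] at hl
      have h4 : ((Q (b i))⁻¹ * polar Q (b i) e) • b i = (1 - l) • e := by
        rw [sub_smul, one_smul, hl]
        abel
      have h5 := congrArg Q h4
      rw [QuadraticMap.map_smul, QuadraticMap.map_smul, he] at h5
      simp only [smul_eq_mul, mul_zero, mul_eq_zero, inv_eq_zero] at h5
      rcases h5 with (h | h) | h
      · rcases h with h | h
        · exact hb0 i h
        · exact hne h
      · rcases h with h | h
        · exact hb0 i h
        · exact hne h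
      · exact hb0 i h

end Main

end Cfsg.Agent.Lib.Helper5.GInv
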