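import Mathlib
import Cfsg.Agent.Lib.Helper5.GInv.Parity

set_option autoImplicit false

/-! Existence lemmas for singular and nonsingular vectors in a nondegenerate quadratic space. -/

namespace Cfsg.Agent.Lib.Helper5.GInv

open Module QuadraticMap

section Geom
variable {k : Type*} [Field k] {W : Type*} [AddCommGroup W] [Module k W]
variable (Q : QuadraticForm k W)

theorem polar_zero_right' (x : W) : polar Q x 0 = 0 := by simp [polar]

theorem polar_zero_left' (x : W) : polar Q 0 x = 0 := by simp [polar]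

theorem ne_zero_of_polar_ne {x y : W} (h : polar Q x y ≠ 0) : y ≠ 0 := by
  rintro rfl
  exact h (polar_zero_right' Q x)

/-- two perpendicular singular points have a common non-perpendicular singular point -/
theorem exists_nonperp_both (hQ : (polarBilin Q).Nondegenerate) {e e' : W} (he0 : e ≠ 0)
    (he'0 : e' ≠ 0) (he : Q e = 0) (hee' : polar Q e e' = 0) :
    ∃ z : W, Q z = 0 ∧ polar Q e z ≠ 0 ∧ polar Q e' z ≠ 0 := by
  have hex : ∀ v : W, v ≠ 0 → ∃ u, polar Q v u ≠ 0 := by
    intro v hv0
    by_contra hcon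
    push Not at hcon
    exact hv0 (hQ.1 v hcon)
  obtain ⟨w₁, hw₁⟩ := hex e he0
  obtain ⟨w₂, hw₂⟩ := hex e' he'0
  obtain ⟨w, hw1, hw2⟩ : ∃ w, polar Q e w ≠ 0 ∧ polar Q e' w ≠ 0 := by
    by_cases h1 : polar Q e' w₁ = 0
    · by_cases h2 : polar Q e w₂ = 0
      · refine ⟨w₁ + w₂, ?_, ?_⟩
        · rw [polar_add_right, h2, add_zero]; exact hw₁
        · rw [polar_add_right, h1, zero_add]; exact hw₂
      · exact ⟨w₂, h2, hw₂⟩
    · exact ⟨w₁, hw₁, h1⟩
  refine ⟨w - (Q w * (polar Q e w)⁻¹) • e, ?_, ?_, ?_⟩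
  · have h3 : w - (Q w * (polar Q e w)⁻¹) • e = (1 : k) • w + (-(Q w * (polar Q e w)⁻¹)) • e := by
      module
    rw [h3, map_lin2, he, polar_comm Q w e]
    field_simp
    ring
  · rw [polar_sub_right, polar_smul_right, polar_self_sing Q he, smul_zero, sub_zero]
    exact hw1
  · rw [polar_sub_right, polar_smul_right, polar_comm Q e' e, hee', smul_zero, sub_zero]
    exact hw2

variable [FiniteDimensional k W]

/-- the complement of a hyperbolic family which does not span contains a nonsingular vector -/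
theorem exists_nonsing_compl (hQ : (polarBilin Q).Nondegenerate) {n : ℕ} {e f : Fin n → W}
    (h : HypFam Q e f) (hn : 2 * n < finrank k W) :
    ∃ u : W, (∀ i, polar Q (e i) u = 0 ∧ polar Q (f i) u = 0) ∧ Q u ≠ 0 := by
  obtain ⟨C, hC, hdim⟩ := h.exists_complement Q hQ
  have hpos : 0 < finrank k C := by omega
  obtain ⟨x, hx0⟩ := Module.finrank_pos_iff_exists_ne_zero.1 hpos
  have hx0' : (x : W) ≠ 0 := fun h0 => hx0 (Subtype.ext h0)
  obtain ⟨y, hy, hxy⟩ := h.exists_polar_ne_zero Q hQ (x : W) ((hC _).1 x.2) hx0'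
  by_cases h1 : Q (x : W) = 0
  · by_cases h2 : Q y = 0
    · refine ⟨(x : W) + y, ?_, ?_⟩
      · intro i
        rw [polar_add_right, polar_add_right, ((hC _).1 x.2 i).1, ((hC _).1 x.2 i).2, (hy i).1,
          (hy i).2, add_zero]
        exact ⟨rfl, rfl⟩
      · intro h3
        apply hxy
        unfold polar
        rw [h3, h1, h2]
        ring
    · exact ⟨y, hy, h2⟩
  · exact ⟨x, (hC _).1 x.2, h1⟩

/-- a hyperbolic pair in dimension at least three has a nonsingular vector orthogonal to it -/
theorem exists_nonsing_perp_pair (hQ : (polarBilin Q).Nondegenerate) (hd : 3 ≤ finrank k W)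
    {e f : W} (he : Q e = 0) (hf : Q f = 0) (hef : polar Q e f = 1) :
    ∃ u : W, polar Q e u = 0 ∧ polar Q f u = 0 ∧ Q u ≠ 0 := by
  have hH : HypFam Q (fun _ : Fin 1 => e) (fun _ : Fin 1 => f) :=
    ⟨fun _ => he, fun _ => hf, fun i j => by rw [Subsingleton.elim i j, if_pos rfl]; exact hef,
      fun _ _ => polar_self_sing Q he, fun _ _ => polar_self_sing Q hf⟩
  obtain ⟨u, hu, hu0⟩ := exists_nonsing_compl Q hQ hH (by omega)
  exact ⟨u, (hu 0).1, (hu 0).2, hu0⟩

/-- an independent perpendicular singular pair extends to two hyperbolic pairs -/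
theorem exists_two_pairs (hQ : (polarBilin Q).Nondegenerate) {e e' : W} (he0 : e ≠ 0)
    (he : Q e = 0) (he' : Q e' = 0) (hee' : polar Q e e' = 0) (hind : ∀ c : k, e' ≠ c • e) :
    ∃ z f₁ : W, Q z = 0 ∧ polar Q z e = 0 ∧ polar Q z e' = 1 ∧
      HypFam Q ![e', e] ![z, f₁] := by
  obtain ⟨f, hef, hf⟩ := exists_partner Q hQ he0 he
  -- a vector perpendicular to `e` but not to `e'`
  have h1 : ∃ w₀, polar Q e w₀ = 0 ∧ polar Q e' w₀ ≠ 0 := by
    by_contra hcon
    push Not at hcon
    apply hind (polar Q e' f)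
    have h2 : e' - polar Q e' f • e = 0 := by
      apply hQ.1
      intro x
      show polar Q (e' - polar Q e' f • e) x = 0
      have h3 := hcon (x - polar Q e x • f) (by
        rw [polar_sub_right, polar_smul_right, hef, smul_eq_mul, mul_one, sub_self])
      rw [polar_sub_right, polar_smul_right, smul_eq_mul, sub_eq_zero] at h3
      rw [polar_sub_left, polar_smul_left, smul_eq_mul, h3]
      ring
    exact sub_eq_zero.1 h2
  obtain ⟨w₀, hw₀1, hw₀2⟩ := h1
  obtain ⟨w, hw⟩ : ∃ w, w = (polar Q e' w₀)⁻¹ • w₀ := ⟨_, rfl⟩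
  have hw1 : polar Q e w = 0 := by rw [hw, polar_smul_right, hw₀1, smul_zero]
  have hw2 : polar Q e' w = 1 := by
    rw [hw, polar_smul_right, smul_eq_mul, inv_mul_cancel₀ hw₀2]
  have he'e : polar Q e' e = 0 := by rw [polar_comm]; exact hee'
  obtain ⟨z, hz⟩ : ∃ z, z = w - Q w • e' := ⟨_, rfl⟩
  have hzQ : Q z = 0 := by
    have h3 : z = (1 : k) • w + (-Q w) • e' := by rw [hz]; module
    rw [h3, map_lin2, he', polar_comm Q w e', hw2]
    ring
  have hze : polar Q z e = 0 := by
    rw [hz, polar_sub_left, polar_smul_left, polar_comm Q w e, hw1, he'e, smul_zero, sub_zero]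
  have hze' : polar Q z e' = 1 := by
    rw [hz, polar_sub_left, polar_smul_left, polar_self_sing Q he', smul_zero, sub_zero,
      polar_comm Q w e', hw2]
  have he'z : polar Q e' z = 1 := by rw [polar_comm]; exact hze'
  have hez : polar Q e z = 0 := by rw [polar_comm]; exact hze
  -- the partner of `e` orthogonal to `e'` and `z`
  obtain ⟨y, hy⟩ : ∃ y, y = f - polar Q z f • e' - polar Q e' f • z := ⟨_, rfl⟩
  have hy1 : polar Q e y = 1 := by
    rw [hy, polar_sub_right, polar_sub_right, polar_smul_right, polar_smul_right, hef, hee', hez]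
    simp
  have hy2 : polar Q e' y = 0 := by
    rw [hy, polar_sub_right, polar_sub_right, polar_smul_right, polar_smul_right,
      polar_self_sing Q he', he'z]
    simp
  have hy3 : polar Q z y = 0 := by
    rw [hy, polar_sub_right, polar_sub_right, polar_smul_right, polar_smul_right,
      polar_self_sing Q hzQ, hze']
    simp
  obtain ⟨f₁, hf₁⟩ : ∃ f₁, f₁ = y - Q y • e := ⟨_, rfl⟩
  have hf₁Q : Q f₁ = 0 := by
    have h3 : f₁ = (1 : k) • y + (-Q y) • e := by rw [hf₁]; module
    rw [h3, map_lin2, he, polar_comm Q y e, hy1]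
    ring
  have hf₁1 : polar Q e f₁ = 1 := by
    rw [hf₁, polar_sub_right, polar_smul_right, polar_self_sing Q he, smul_zero, sub_zero, hy1]
  have hf₁2 : polar Q e' f₁ = 0 := by
    rw [hf₁, polar_sub_right, polar_smul_right, he'e, smul_zero, sub_zero, hy2]
  have hf₁3 : polar Q z f₁ = 0 := by
    rw [hf₁, polar_sub_right, polar_smul_right, hze, smul_zero, sub_zero, hy3]
  refine ⟨z, f₁, hzQ, hze, hze', ?_⟩
  refine ⟨?_, ?_, ?_, ?_, ?_⟩
  · intro i
    fin_cases i
    · exact he'
    · exact he
  · intro i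
    fin_cases i
    · exact hzQ
    · exact hf₁Q
  · intro i j
    fin_cases i <;> fin_cases j
    · simpa using he'z
    · simpa using hf₁2
    · simpa using hez
    · simpa using hf₁1
  · intro i j
    fin_cases i <;> fin_cases j
    · simpa using polar_self_sing Q he'
    · simpa using he'e
    · simpa using hee'
    · simpa using polar_self_sing Q he
  · intro i j
    fin_cases i <;> fin_cases j
    · simpa using polar_self_sing Q hzQ
    · simpa using hf₁3
    · simpa using (by rw [polar_comm]; exact hf₁3 : polar Q f₁ z = 0)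
    · simpa using polar_self_sing Q hf₁Q

/-- an independent perpendicular singular pair forces dimension at least four -/
theorem four_le_of_two_pairs {z f₁ e e' : W} (h : HypFam Q ![e', e] ![z, f₁]) :
    4 ≤ finrank k W := by
  have h1 := (h.linearIndependent' Q).fintype_card_le_finrank
  simpa using h1

end Geom

end Cfsg.Agent.Lib.Helper5.GInv
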