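import Mathlib
import Cfsg.Agent.Lib.Helper5.GInv.Geom

set_option autoImplicit false

/-! A semilinear bijection of a nondegenerate quadratic space of dimension at least three over a
finite field of odd characteristic which fixes every singular point is a scalar (and linear). -/

namespace Cfsg.Agent.Lib.Helper5.GInv

open Module QuadraticMap

section SL
variable {k : Type*} [Field k] [Finite k] {W : Type*} [AddCommGroup W] [Module k W]
variable [FiniteDimensional k W] (Q : QuadraticForm k W)

set_option maxHeartbeats 1600000 in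
theorem sl_main (h2 : (2 : k) ≠ 0) (hQ : (polarBilin Q).Nondegenerate) (hd : 3 ≤ finrank k W)
    (τ : k → k) (hτ1 : τ 1 = 1) (hτ2 : τ 2 = 2) (f : W → W)
    (hadd : ∀ x y, f (x + y) = f x + f y)
    (hsmul : ∀ (c : k) (x : W), f (c • x) = τ c • f x) (hinj : ∀ x, f x = 0 → x = 0)
    (hfix : ∀ e, e ≠ 0 → Q e = 0 → ∃ c : k, f e = c • e) :
    (∀ t, τ t = t) ∧ ∃ κ : k, ∀ x, f x = κ • x := by
  obtain ⟨e, he0, he⟩ := exists_singular_of_finrank Q hd
  obtain ⟨f', hef, hf'⟩ := exists_partner Q hQ he0 he
  have hfe : polar Q f' e = 1 := by rw [polar_comm]; exact hef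
  have hee := polar_self_sing Q he
  have hff := polar_self_sing Q hf'
  have hf0 : f 0 = 0 := by
    have := hadd 0 0
    rw [add_zero] at this
    exact left_eq_add.1 this
  have hneg : ∀ x, f (-x) = -f x := by
    intro x
    have := hadd x (-x)
    rw [add_neg_cancel, hf0] at this
    exact (neg_eq_of_add_eq_zero_right this.symm).symm
  have hsub : ∀ x y, f (x - y) = f x - f y := by
    intro x y
    rw [sub_eq_add_neg, hadd, hneg, sub_eq_add_neg]
  have hf'0 : f' ≠ 0 := ne_zero_of_polar_ne Q (by rw [hef]; exact one_ne_zero)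
  obtain ⟨a, ha⟩ := hfix e he0 he
  obtain ⟨b, hb⟩ := hfix f' hf'0 hf'
  have hb0 : b ≠ 0 := by
    rintro rfl
    rw [zero_smul] at hb
    exact hf'0 (hinj _ hb)
  -- the key relations
  have key : ∀ w : W, polar Q e w = 0 → polar Q f' w = 0 → ∀ t : k,
      (∀ y : W, polar Q e y = 0 → polar Q f' y = 0 →
        τ t * polar Q y (f w) = (b + τ t * polar Q e (f w)) * (t * polar Q y w)) ∧
      τ t * polar Q f' (f w) - τ (t ^ 2 * Q w) * a =
        -((b + τ t * polar Q e (f w)) * (t ^ 2 * Q w)) := by
    intro w hew hfw t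
    obtain ⟨v, hv⟩ : ∃ v, v = f' + t • w - (t ^ 2 * Q w) • e := ⟨_, rfl⟩
    have hvQ : Q v = 0 := by
      have h3 : v = (1 : k) • f' + t • w + (-(t ^ 2 * Q w)) • e := by rw [hv]; module
      rw [h3, map_lin3, hf', he, hfw, hfe, polar_comm Q w e, hew]
      ring
    have hev : polar Q e v = 1 := by
      rw [hv, polar_sub_right, polar_add_right, polar_smul_right, polar_smul_right, hef, hew,
        hee]
      simp
    have hv0 : v ≠ 0 := ne_zero_of_polar_ne Q (by rw [hev]; exact one_ne_zero)
    obtain ⟨l, hl⟩ := hfix v hv0 hvQ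
    have hfv : f v = b • f' + τ t • f w - (τ (t ^ 2 * Q w) * a) • e := by
      rw [hv, hsub, hadd, hsmul, hsmul, hb, ha, smul_smul]
    have hl1 : l = b + τ t * polar Q e (f w) := by
      have h3 : polar Q e (f v) = l := by
        rw [hl, polar_smul_right, hev, smul_eq_mul, mul_one]
      rw [← h3, hfv, polar_sub_right, polar_add_right, polar_smul_right, polar_smul_right,
        polar_smul_right, hef, hee]
      simp
    refine ⟨?_, ?_⟩
    · intro y hey hfy
      have hye : polar Q y e = 0 := by rw [polar_comm]; exact hey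
      have hyf : polar Q y f' = 0 := by rw [polar_comm]; exact hfy
      have h3 : polar Q y (f v) = l * (t * polar Q y w) := by
        rw [hl, polar_smul_right, hv, polar_sub_right, polar_add_right, polar_smul_right,
          polar_smul_right, hye, hyf]
        simp
      rw [← hl1, ← h3, hfv, polar_sub_right, polar_add_right, polar_smul_right,
        polar_smul_right, polar_smul_right, hye, hyf]
      simp
    · have h3 : polar Q f' (f v) = -(l * (t ^ 2 * Q w)) := by
        rw [hl, polar_smul_right, hv, polar_sub_right, polar_add_right, polar_smul_right,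
          polar_smul_right, hff, hfw, hfe]
        simp
      rw [← hl1, ← h3, hfv, polar_sub_right, polar_add_right, polar_smul_right,
        polar_smul_right, polar_smul_right, hff, hfe]
      simp
  have hH : HypFam Q (fun _ : Fin 1 => e) (fun _ : Fin 1 => f') :=
    ⟨fun _ => he, fun _ => hf', fun i j => by rw [Subsingleton.elim i j, if_pos rfl]; exact hef,
      fun _ _ => hee, fun _ _ => hff⟩
  -- step 1
  have step1 : ∀ w : W, polar Q e w = 0 → polar Q f' w = 0 → polar Q e (f w) = 0 := by
    intro w hew hfw
    by_cases hw0 : w = 0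
    · rw [hw0, hf0]
      exact polar_zero_right' Q e
    obtain ⟨y, hy, hwy⟩ := hH.exists_polar_ne_zero Q hQ w (fun _ => ⟨hew, hfw⟩) hw0
    have hyw : polar Q y w ≠ 0 := by rw [polar_comm]; exact hwy
    have k1 := (key w hew hfw 1).1 y (hy 0).1 (hy 0).2
    have k2 := (key w hew hfw 2).1 y (hy 0).1 (hy 0).2
    rw [hτ1, one_mul, one_mul, one_mul] at k1
    rw [hτ2, k1] at k2
    have h3 : polar Q e (f w) * (2 * polar Q y w) = 0 := by
      linear_combination (-1 : k) * k2
    rcases mul_eq_zero.1 h3 with h | h
    · exact h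
    · exact absurd h (mul_ne_zero h2 hyw)
  -- step 2
  have step2 : ∀ w : W, polar Q e w = 0 → polar Q f' w = 0 → ∀ y : W, polar Q e y = 0 →
      polar Q f' y = 0 → polar Q y (f w) = b * polar Q y w := by
    intro w hew hfw y hey hfy
    have k1 := (key w hew hfw 1).1 y hey hfy
    rw [hτ1, one_mul, one_mul, one_mul, step1 w hew hfw, add_zero] at k1
    exact k1
  obtain ⟨w₀, hew₀, hfw₀, hQw₀⟩ := exists_nonsing_perp_pair Q hQ hd he hf' hef
  have hw₀w₀ : polar Q w₀ w₀ ≠ 0 := by
    rw [QuadraticMap.polar_self]
    simp only [nsmul_eq_mul, Nat.cast_ofNat]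
    exact mul_ne_zero h2 hQw₀
  -- step 3
  have step3 : ∀ t, τ t = t := by
    intro t
    have k1 := (key w₀ hew₀ hfw₀ t).1 w₀ hew₀ hfw₀
    rw [step1 w₀ hew₀ hfw₀, mul_zero, add_zero, step2 w₀ hew₀ hfw₀ w₀ hew₀ hfw₀] at k1
    have h3 : (τ t - t) * (b * polar Q w₀ w₀) = 0 := by linear_combination k1
    rcases mul_eq_zero.1 h3 with h | h
    · exact sub_eq_zero.1 h
    · exact absurd h (mul_ne_zero hb0 hw₀w₀)
  -- step 4
  have step4a : ∀ w : W, polar Q e w = 0 → polar Q f' w = 0 →
      polar Q f' (f w) = Q w * (a - b) ∧ Q w * (a - b) = 0 := by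
    intro w hew hfw
    have k1 := (key w hew hfw 1).2
    have k2 := (key w hew hfw 2).2
    rw [step3, step3, step1 w hew hfw] at k1 k2
    constructor
    · linear_combination k1
    · have h3 : (2 : k) * (Q w * (a - b)) = 0 := by linear_combination (-1 : k) * k2 + 2 * k1
      rcases mul_eq_zero.1 h3 with h | h
      · exact absurd h h2
      · exact h
  have hab : a = b := by
    have := (step4a w₀ hew₀ hfw₀).2
    rcases mul_eq_zero.1 this with h | h
    · exact absurd h hQw₀
    · exact sub_eq_zero.1 h
  -- decomposition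
  have hdec : ∀ x : W, ∃ c : W, polar Q e c = 0 ∧ polar Q f' c = 0 ∧
      x = polar Q f' x • e + polar Q e x • f' + c := by
    intro x
    refine ⟨x - polar Q f' x • e - polar Q e x • f', ?_, ?_, ?_⟩
    · rw [polar_sub_right, polar_sub_right, polar_smul_right, polar_smul_right, hee, hef]
      simp
    · rw [polar_sub_right, polar_sub_right, polar_smul_right, polar_smul_right, hff, hfe]
      simp
    · abel
  -- step 5
  have step5 : ∀ w : W, polar Q e w = 0 → polar Q f' w = 0 → f w = b • w := by
    intro w hew hfw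
    have h3 : f w - b • w = 0 := by
      apply hQ.1
      intro x
      show polar Q (f w - b • w) x = 0
      obtain ⟨c, hec, hfc, hx⟩ := hdec x
      have e1 : polar Q (f w) e = 0 := by rw [polar_comm]; exact step1 w hew hfw
      have e2 : polar Q (f w) f' = 0 := by
        rw [polar_comm, (step4a w hew hfw).1, (step4a w hew hfw).2]
      have e3 : polar Q (f w) c = b * polar Q w c := by
        rw [polar_comm, step2 w hew hfw c hec hfc, polar_comm]
      have e4 : polar Q w e = 0 := by rw [polar_comm]; exact hew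
      have e5 : polar Q w f' = 0 := by rw [polar_comm]; exact hfw
      rw [hx, polar_sub_left, polar_smul_left, polar_add_right, polar_add_right,
        polar_add_right, polar_add_right, polar_smul_right, polar_smul_right, polar_smul_right,
        polar_smul_right, e1, e2, e3, e4, e5]
      simp
    exact sub_eq_zero.1 h3
  refine ⟨step3, b, fun x => ?_⟩
  obtain ⟨c, hec, hfc, hx⟩ := hdec x
  conv_lhs => rw [hx]
  rw [hadd, hadd, hsmul, hsmul, step3, step3, ha, hb, step5 c hec hfc, hab]
  conv_rhs => rw [hx]
  module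

end SL

end Cfsg.Agent.Lib.Helper5.GInv
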