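import Mathlib
import Cfsg.Agent.Lib.Helper5.GInv.SL

set_option autoImplicit false

/-! A group of isometries of odd order of a nondegenerate quadratic space of odd dimension
(three, or at least five) over a finite field of odd characteristic which is normalized by the
Eichler transformations is trivial. -/

namespace Cfsg.Agent.Lib.Helper5.GInv

open Module QuadraticMap
open scoped Pointwise

section NC
variable {k : Type*} [Field k] {W : Type*} [AddCommGroup W] [Module k W]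

theorem smul_span_singleton' (δ : W ≃ₗ[k] W) (e : W) :
    δ • Submodule.span k {e} = Submodule.span k {δ e} := by
  show (Submodule.span k {e}).map δ.toLinearMap = _
  rw [Submodule.map_span, Set.image_singleton]
  rfl

theorem pow_apply_of_scalar (δ : W ≃ₗ[k] W) (κ : k) (h : ∀ x, δ x = κ • x) (n : ℕ) (x : W) :
    (δ ^ n) x = κ ^ n • x := by
  induction n with
  | zero => simp
  | succ n ih =>
    rw [pow_succ, LinearEquiv.mul_apply, h, map_smul, ih, smul_smul, pow_succ, mul_comm]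

variable [Finite k] [FiniteDimensional k W] (Q : QuadraticForm k W)

theorem finite_linearEquiv : Finite (W ≃ₗ[k] W) := by
  haveI : Finite W := Module.finite_of_finite k
  exact Finite.of_injective (fun g : W ≃ₗ[k] W => (g : W → W)) DFunLike.coe_injective

set_option maxHeartbeats 1600000 in
theorem nc_main (h2 : (2 : k) ≠ 0) (hQ : (polarBilin Q).Nondegenerate)
    (hd : finrank k W = 3 ∨ 5 ≤ finrank k W)
    (D : Subgroup (W ≃ₗ[k] W)) (hodd : Odd (Nat.card D))
    (hiso : ∀ δ ∈ D, ∀ x, Q (δ x) = Q x)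
    (hnorm : ∀ (e u : W) (he : Q e = 0) (heu : polar Q e u = 0), ∀ δ ∈ D,
      eichE Q e u he heu * δ * (eichE Q e u he heu)⁻¹ ∈ D) :
    ∀ δ ∈ D, ∀ x, δ x = x := by
  classical
  haveI : Finite (W ≃ₗ[k] W) := finite_linearEquiv
  have hd3 : 3 ≤ finrank k W := by rcases hd with h | h <;> omega
  have hpol : ∀ δ ∈ D, ∀ x y, polar Q (δ x) (δ y) = polar Q x y := by
    intro δ hδ x y
    unfold polar
    rw [← map_add, hiso δ hδ, hiso δ hδ, hiso δ hδ]
  have hinvapp : ∀ (δ : W ≃ₗ[k] W) (x : W), δ (δ⁻¹ x) = x := fun δ x => δ.apply_symm_apply x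
  have hinvapp' : ∀ (δ : W ≃ₗ[k] W) (x : W), δ⁻¹ (δ x) = x := fun δ x => δ.symm_apply_apply x
  -- P1
  have P1 : ∀ δ ∈ D, ∀ e, Q e = 0 → polar Q (δ e) e = 0 := by
    intro δ₀ hδ₀ e₀ he₀
    by_contra hne
    have he₀0 : e₀ ≠ 0 := ne_zero_of_polar_ne Q hne
    have hπ : polar Q e₀ (δ₀ e₀) ≠ 0 := by rw [polar_comm]; exact hne
    -- the relation
    have A1 : ∀ e e' : W, Q e = 0 → Q e' = 0 → polar Q e e' ≠ 0 →
        (∃ δ ∈ D, ∃ c : k, c ≠ 0 ∧ δ e₀ = c • e) →
        ∃ δ ∈ D, ∃ c : k, c ≠ 0 ∧ δ e₀ = c • e' := by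
      rintro e e' he he' hee' ⟨δ₁, hδ₁, c, hc0, hδ₁e⟩
      obtain ⟨g₁, hg₁⟩ : ∃ g₁, g₁ = δ₁ (δ₀ e₀) := ⟨_, rfl⟩
      have hg₁Q : Q g₁ = 0 := by rw [hg₁, hiso δ₁ hδ₁, hiso δ₀ hδ₀, he₀]
      have hs : polar Q e g₁ = c⁻¹ * polar Q e₀ (δ₀ e₀) := by
        have h3 : polar Q (δ₁ e₀) g₁ = polar Q e₀ (δ₀ e₀) := by rw [hg₁, hpol δ₁ hδ₁]
        rw [hδ₁e, polar_smul_left, smul_eq_mul] at h3
        rw [← h3, ← mul_assoc, inv_mul_cancel₀ hc0, one_mul]
      have hs0 : polar Q e g₁ ≠ 0 := by rw [hs]; exact mul_ne_zero (inv_ne_zero hc0) hπ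
      obtain ⟨f₁, hf₁⟩ : ∃ f₁, f₁ = (polar Q e g₁)⁻¹ • g₁ := ⟨_, rfl⟩
      obtain ⟨f₂, hf₂⟩ : ∃ f₂, f₂ = (polar Q e e')⁻¹ • e' := ⟨_, rfl⟩
      have hf₁Q : Q f₁ = 0 := by rw [hf₁, QuadraticMap.map_smul, hg₁Q, smul_zero]
      have hf₂Q : Q f₂ = 0 := by rw [hf₂, QuadraticMap.map_smul, he', smul_zero]
      have hef₁ : polar Q e f₁ = 1 := by
        rw [hf₁, polar_smul_right, smul_eq_mul, inv_mul_cancel₀ hs0]
      have hef₂ : polar Q e f₂ = 1 := by
        rw [hf₂, polar_smul_right, smul_eq_mul, inv_mul_cancel₀ hee']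
      have heu : polar Q e (f₂ - f₁) = 0 := by rw [polar_sub_right, hef₁, hef₂, sub_self]
      have hρ := eich_partner Q hf₁Q hf₂Q hef₁ hef₂
      have hmem : eichE Q e (f₂ - f₁) he heu * (δ₁ * δ₀ * δ₁⁻¹) *
          (eichE Q e (f₂ - f₁) he heu)⁻¹ ∈ D :=
        hnorm e (f₂ - f₁) he heu _ (D.mul_mem (D.mul_mem hδ₁ hδ₀) (D.inv_mem hδ₁))
      refine ⟨_, D.mul_mem hmem hδ₁, polar Q e g₁ * (polar Q e e')⁻¹,
        mul_ne_zero hs0 (inv_ne_zero hee'), ?_⟩
      have hδ₁inv : δ₁⁻¹ e = c⁻¹ • e₀ := by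
        have : e = δ₁ (c⁻¹ • e₀) := by
          rw [map_smul, hδ₁e, smul_smul, inv_mul_cancel₀ hc0, one_smul]
        rw [this, hinvapp']
      have hρinv : (eichE Q e (f₂ - f₁) he heu)⁻¹ e = e := by
        show (eichE Q e (f₂ - f₁) he heu).symm e = e
        rw [eichE_symm_apply]
        exact eich_e Q he (by rw [polar_neg_right, heu, neg_zero])
      have hg₁' : g₁ = polar Q e g₁ • f₁ := by
        rw [hf₁, smul_smul, mul_inv_cancel₀ hs0, one_smul]
      rw [LinearEquiv.mul_apply, hδ₁e, map_smul, LinearEquiv.mul_apply, LinearEquiv.mul_apply,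
        hρinv, LinearEquiv.mul_apply, LinearEquiv.mul_apply, hδ₁inv, map_smul, map_smul, ← hg₁,
        map_smul, smul_smul, mul_inv_cancel₀ hc0, one_smul, hg₁', map_smul, eichE_apply, hρ, hf₂,
        smul_smul, polar_smul_right, hef₁, smul_eq_mul, mul_one]
    have A : ∀ e : W, e ≠ 0 → Q e = 0 → ∃ δ ∈ D, ∃ c : k, c ≠ 0 ∧ δ e₀ = c • e := by
      intro e he0 he
      have hR₀ : ∃ δ ∈ D, ∃ c : k, c ≠ 0 ∧ δ e₀ = c • e₀ :=
        ⟨1, D.one_mem, 1, one_ne_zero, by simp⟩
      by_cases hee : polar Q e₀ e = 0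
      · obtain ⟨z, hz, hz1, hz2⟩ := exists_nonperp_both Q hQ he₀0 he0 he₀ hee
        have hRz := A1 e₀ z he₀ hz hz1 hR₀
        exact A1 z e hz he (by rw [polar_comm]; exact hz2) hRz
      · exact A1 e₀ e he₀ he hee hR₀
    -- counting
    have horb : MulAction.orbit ↥D (Submodule.span k {e₀}) = {P | IsSingPt Q P} := by
      ext P
      constructor
      · rintro ⟨δ, rfl⟩
        refine ⟨(δ : W ≃ₗ[k] W) e₀, ?_, ?_, ?_⟩
        · intro h
          apply he₀0
          have := hinvapp' (δ : W ≃ₗ[k] W) e₀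
          rw [h, map_zero] at this
          exact this.symm
        · rw [hiso _ δ.2]; exact he₀
        · exact smul_span_singleton' (δ : W ≃ₗ[k] W) e₀
      · rintro ⟨e, he0, he, rfl⟩
        obtain ⟨δ, hδ, c, hc0, hδe⟩ := A e he0 he
        refine ⟨⟨δ, hδ⟩, ?_⟩
        show δ • Submodule.span k {e₀} = _
        rw [smul_span_singleton', hδe]
        exact Submodule.span_singleton_smul_eq (IsUnit.mk0 c hc0) e
    have h3 := MulAction.index_stabilizer ↥D (Submodule.span k {e₀})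
    rw [horb, ← Nat.card_coe_set_eq] at h3
    have h4 : Nat.card {P : Submodule k W // IsSingPt Q P} ∣ Nat.card D := by
      have := Subgroup.index_dvd_card (MulAction.stabilizer ↥D (Submodule.span k {e₀}))
      rw [h3] at this
      exact this
    have h5 := even_card_singPts Q h2 hQ
    obtain ⟨m, hm⟩ := h4
    rw [hm] at hodd
    exact (Nat.not_even_iff_odd.2 (Nat.Odd.of_mul_left hodd)) h5
  -- P2
  have P2 : ∀ δ ∈ D, ∀ e, e ≠ 0 → Q e = 0 → ∃ c : k, δ e = c • e := by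
    intro δ hδ e he0 he
    by_contra hcon
    push Not at hcon
    obtain ⟨e', he'⟩ : ∃ e', e' = δ e := ⟨_, rfl⟩
    have he'Q : Q e' = 0 := by rw [he', hiso δ hδ, he]
    have hee' : polar Q e e' = 0 := by rw [polar_comm, he']; exact P1 δ hδ e he
    obtain ⟨z, f₁, hz, hze, hze', hH⟩ := exists_two_pairs Q hQ he0 he he'Q hee'
      (fun c => by rw [he']; exact hcon c)
    have h4 := four_le_of_two_pairs Q hH
    have h5 : 2 * 2 < finrank k W := by rcases hd with h | h <;> omega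
    obtain ⟨u, hu, hu0⟩ := exists_nonsing_compl Q hQ hH h5
    have hue' : polar Q e' u = 0 := by simpa using (hu 0).1
    have hue : polar Q e u = 0 := by simpa using (hu 1).1
    have hzu : polar Q z u = 0 := by simpa using (hu 0).2
    have hρe : eich Q z u e = e :=
      eich_fix Q hze (by rw [polar_comm]; exact hue)
    have hρinv : (eichE Q z u hz hzu)⁻¹ e = e := by
      show (eichE Q z u hz hzu).symm e = e
      rw [eichE_symm_apply]
      exact eich_fix Q hze (by rw [polar_neg_left, polar_comm, hue, neg_zero])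
    have hmem : δ⁻¹ * (eichE Q z u hz hzu * δ * (eichE Q z u hz hzu)⁻¹) ∈ D :=
      D.mul_mem (D.inv_mem hδ) (hnorm z u hz hzu δ hδ)
    have h6 := P1 _ hmem e he
    rw [LinearEquiv.mul_apply, LinearEquiv.mul_apply, LinearEquiv.mul_apply, hρinv, ← he',
      eichE_apply] at h6
    have h7 : polar Q (δ (δ⁻¹ (eich Q z u e'))) (δ e) = polar Q (δ⁻¹ (eich Q z u e')) e :=
      hpol δ hδ _ _
    rw [hinvapp, ← he', polar_eich_self Q he'Q hze'] at h7
    rw [← h7] at h6
    exact hu0 (neg_eq_zero.1 h6)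
  -- P3
  intro δ hδ
  obtain ⟨-, κ, hκ⟩ := sl_main Q h2 hQ hd3 id rfl rfl δ (fun x y => map_add δ x y)
    (fun c x => map_smul δ c x) (fun x hx => by
      have := hinvapp' δ x
      rw [hx, map_zero] at this
      exact this.symm) (P2 δ hδ)
  obtain ⟨e, he0, he⟩ := exists_singular_of_finrank Q hd3
  obtain ⟨f, hef, hf⟩ := exists_partner Q hQ he0 he
  have hv : Q (e + f) = 1 := by
    rw [QuadraticMap.map_add (⇑Q), he, hf, hef]
    ring
  have h3 := hiso δ hδ (e + f)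
  rw [hκ, QuadraticMap.map_smul, hv, smul_eq_mul, mul_one] at h3
  have h4 : (κ - 1) * (κ + 1) = 0 := by linear_combination h3
  rcases mul_eq_zero.1 h4 with h | h
  · intro x
    rw [hκ, sub_eq_zero.1 h, one_smul]
  · exfalso
    have hκ' : κ = -1 := eq_neg_of_add_eq_zero_left h
    obtain ⟨m, hm⟩ := hodd
    have h5 : (⟨δ, hδ⟩ : ↥D) ^ Nat.card ↥D = 1 := pow_card_eq_one'
    have h6 : δ ^ Nat.card ↥D = 1 := by
      have := congrArg Subtype.val h5
      rwa [Subgroup.coe_pow] at this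
    have h7 := pow_apply_of_scalar δ κ hκ (Nat.card ↥D) (e + f)
    have h9 : (1 : W ≃ₗ[k] W) (e + f) = e + f := rfl
    rw [h6, hκ', hm, Odd.neg_one_pow ⟨m, rfl⟩, h9, neg_one_smul] at h7
    have h8 : (2 : k) • (e + f) = 0 := by
      rw [two_smul]
      nth_rewrite 1 [h7]
      exact neg_add_cancel _
    rcases smul_eq_zero.1 h8 with h | h
    · exact h2 h
    · rw [h, QuadraticMap.map_zero] at hv
      exact zero_ne_one hv

end NC

end Cfsg.Agent.Lib.Helper5.GInv
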