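import Mathlib
import Cfsg.Agent.Lib.Helper5.GInv.NC
import Cfsg.Agent.Lib.Helper5.OFld28

set_option autoImplicit false

/-! Concrete Eichler transformations of `F^ι` and automorphisms of `PΩ(Q)` fixing them. -/

namespace Cfsg.Agent.Lib.Helper5.GInv

open Matrix QuadraticMap
open Cfsg.Agent.Lib.Helper5.PGO Cfsg.Agent.Lib.Helper5.OAut Cfsg.Agent.Lib.Helper5.OFld
open Cfsg.Agent.Lib.Helper2 Cfsg.Agent.Lib.Helper2.LongRoot

section Conc
variable {F : Type*} [Field F] [Fintype F] {ι : Type} [Fintype ι] [DecidableEq ι]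
variable {Q : QuadraticForm F (ι → F)}

theorem Es_eq_eich (hQ : (polarBilin Q).Nondegenerate) {e u : ι → F} (he : Q e = 0)
    (heu : polar Q e u = 0) (x : ι → F) : Es hQ e u • x = eich Q e u x := by
  rw [Es_smul hQ he heu, eich_apply]

theorem Es_mem_Omega (hQ : (polarBilin Q).Nondegenerate) (hn : 7 ≤ Fintype.card ι)
    {e u : ι → F} (he0 : e ≠ 0) (he : Q e = 0) (heu : polar Q e u = 0) :
    Es hQ e u ∈ Cfsg.Omega F ⇑Q := by
  rw [← T_eq_Omega hQ hn]
  exact Es_mem_T_all hQ (by omega) he0 he heu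

/-- an automorphism fixing the class of an Eichler transformation commutes with it -/
theorem conjS_Es_of_fix (p : ℕ) [Fact p.Prime] [CharP F p]
    (hQ : (polarBilin Q).Nondegenerate) (hn : 7 ≤ Fintype.card ι)
    {g : GL ι F} {σ : F ≃+* F} (h : Cfsg.IsSemisimilarityPair (⇑Q) g σ)
    {u w : ι → F} (hu0 : u ≠ 0) (hu : Q u = 0) (huw : polar Q u w = 0)
    (hfix : PhiS g σ h (QuotientGroup.mk ⟨Es hQ u w, Es_mem_Omega hQ hn hu0 hu huw⟩) =
      QuotientGroup.mk ⟨Es hQ u w, Es_mem_Omega hQ hn hu0 hu huw⟩) :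
    conjS g σ h (Es hQ u w) = Es hQ u w := by
  haveI := finite_omega (Q := Q)
  have hcop : (Nat.card (Subgroup.center ↥(Cfsg.Omega F (⇑Q)))).Coprime p := by
    have key : ∀ K : Subgroup (OG Q), K = T Q →
        (Nat.card (Subgroup.center ↥K)).Coprime p := by
      intro K hK
      subst hK
      exact coprime_card_center hQ hn p
    exact key _ (T_eq_Omega hQ hn).symm
  obtain ⟨s, hs⟩ : ∃ s : ↥(Cfsg.Omega F (⇑Q)),
    s = ⟨Es hQ u w, Es_mem_Omega hQ hn hu0 hu huw⟩ := ⟨_, rfl⟩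
  have hρ : CQ (QuotientGroup.mk' (Subgroup.center ↥(Cfsg.Omega F (⇑Q)))) := cq_mk'
  have hsp : s ^ p = 1 := by
    apply Subtype.ext
    rw [Subgroup.coe_pow, hs]
    exact Qs_pow_char hQ p hu0 hu (Es_mem_Qs hQ hu huw)
  have hsp' : (resChar (commutator ↥(Cfsg.isometryGroup F ⇑Q)) (conjS g σ h) s) ^ p = 1 := by
    rw [← map_pow, hsp, map_one]
  have h2 : QuotientGroup.mk' (Subgroup.center ↥(Cfsg.Omega F (⇑Q)))
      (resChar (commutator ↥(Cfsg.isometryGroup F ⇑Q)) (conjS g σ h) s) =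
      QuotientGroup.mk' (Subgroup.center ↥(Cfsg.Omega F (⇑Q))) s := by
    rw [hs]
    exact hfix
  have h3 := eq_of_pow p hcop hρ hsp' hsp h2
  have h4 := congrArg (fun t : ↥(Cfsg.Omega F (⇑Q)) => (t : ↥(Cfsg.isometryGroup F ⇑Q))) h3
  rw [hs] at h4
  exact h4

/-- the semilinear map of a pair commutes with the Eichler transformations fixed by the
automorphism -/
theorem semi_comm_of_conjS {g : GL ι F} {σ : F ≃+* F}
    (h : Cfsg.IsSemisimilarityPair (⇑Q) g σ) {ρ : OG Q} (hρ : conjS g σ h ρ = ρ) (x : ι → F) :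
    semi g σ (ρ • x) = ρ • semi g σ x := by
  have h3 := semi_conj g (ρ : GL ι F) σ x
  have h4 : ((conjS g σ h ρ : OG Q) : GL ι F) = g * mapGL σ (ρ : GL ι F) * g⁻¹ := rfl
  rw [← h4, hρ] at h3
  exact h3.symm

/-- a semilinear similarity commuting with an Eichler transformation `E(e, u)` with `u`
nonsingular fixes the point of `e` -/
theorem fix_pt_of_comm (h2 : (2 : F) ≠ 0) (hQ : (polarBilin Q).Nondegenerate)
    {f : (ι → F) → (ι → F)} {σ : F ≃+* F} {κ : F} (hf : QSemi Q f σ κ)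
    {e u : ι → F} (he0 : e ≠ 0) (he : Q e = 0) (heu : polar Q e u = 0) (hu : Q u ≠ 0)
    (hcomm : ∀ x, f (Es hQ e u • x) = Es hQ e u • f x) : ∃ c : F, f e = c • e := by
  obtain ⟨p, hep, hp⟩ := exists_partner Q hQ he0 he
  have h3 := eich_sub_sq Q he heu p
  have h4 := eich_sub_sq Q he heu (f p)
  rw [hep, mul_one] at h3
  have h5 := congrArg f h3
  rw [hf.sub, hf.smul, ← Es_eq_eich hQ he heu, ← Es_eq_eich hQ he heu, hcomm, hf.sub, hcomm,
    Es_eq_eich hQ he heu, Es_eq_eich hQ he heu, h4] at h5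
  have h6 : σ (-(2 * Q u)) ≠ 0 := by
    rw [Ne, map_eq_zero, neg_eq_zero]
    exact mul_ne_zero h2 hu
  refine ⟨(σ (-(2 * Q u)))⁻¹ * -(2 * Q u * polar Q e (f p)), ?_⟩
  rw [mul_smul, h5, smul_smul, inv_mul_cancel₀ h6, one_smul]

end Conc

end Cfsg.Agent.Lib.Helper5.GInv
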