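import Mathlib
import Cfsg.Agent.Lib.Helper5.GInv.Conc

set_option autoImplicit false

/-! Restriction of isometries and semilinear similarities to a nondegenerate subspace. -/

namespace Cfsg.Agent.Lib.Helper5.GInv

open Matrix QuadraticMap
open Cfsg.Agent.Lib.Helper5.PGO Cfsg.Agent.Lib.Helper5.OAut Cfsg.Agent.Lib.Helper5.OFld
open Cfsg.Agent.Lib.Helper2 Cfsg.Agent.Lib.Helper2.LongRoot

section Restr
variable {F : Type*} [Field F] [Fintype F] {ι : Type} [Fintype ι] [DecidableEq ι]
variable {Q : QuadraticForm F (ι → F)}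

/-- restriction of an isometry preserving `U` -/
def restrE (U : Submodule F (ι → F)) (h : OG Q) (hU : ∀ x ∈ U, h • x ∈ U)
    (hU' : ∀ x ∈ U, h⁻¹ • x ∈ U) : ↥U ≃ₗ[F] ↥U where
  toFun x := ⟨h • (x : ι → F), hU _ x.2⟩
  invFun x := ⟨h⁻¹ • (x : ι → F), hU' _ x.2⟩
  map_add' x y := by
    apply Subtype.ext
    show h • ((x : ι → F) + (y : ι → F)) = h • (x : ι → F) + h • (y : ι → F)
    rw [smul_add]
  map_smul' c x := by
    apply Subtype.ext
    show h • (c • (x : ι → F)) = c • h • (x : ι → F)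
    rw [smul_comm]
  left_inv x := by
    apply Subtype.ext
    show h⁻¹ • h • (x : ι → F) = x
    rw [inv_smul_smul]
  right_inv x := by
    apply Subtype.ext
    show h • h⁻¹ • (x : ι → F) = x
    rw [smul_inv_smul]

@[simp] theorem restrE_coe (U : Submodule F (ι → F)) (h : OG Q) (hU : ∀ x ∈ U, h • x ∈ U)
    (hU' : ∀ x ∈ U, h⁻¹ • x ∈ U) (x : ↥U) :
    ((restrE U h hU hU' x : ↥U) : ι → F) = h • (x : ι → F) := rfl

/-- restriction as a homomorphism on a subgroup preserving `U` -/
def restrHom (U : Submodule F (ι → F)) (H : Subgroup (OG Q))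
    (hpres : ∀ h ∈ H, ∀ x ∈ U, h • x ∈ U) : ↥H →* (↥U ≃ₗ[F] ↥U) where
  toFun h := restrE U (h : OG Q) (hpres _ h.2) (hpres _ (H.inv_mem h.2))
  map_one' := by
    apply LinearEquiv.ext
    intro x
    apply Subtype.ext
    show ((1 : ↥H) : OG Q) • (x : ι → F) = x
    rw [Subgroup.coe_one, one_smul]
  map_mul' a b := by
    apply LinearEquiv.ext
    intro x
    apply Subtype.ext
    show ((a * b : ↥H) : OG Q) • (x : ι → F) = (a : OG Q) • (b : OG Q) • (x : ι → F)
    rw [Subgroup.coe_mul, mul_smul]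

theorem restrHom_coe (U : Submodule F (ι → F)) (H : Subgroup (OG Q))
    (hpres : ∀ h ∈ H, ∀ x ∈ U, h • x ∈ U) (h : ↥H) (x : ↥U) :
    ((restrHom U H hpres h x : ↥U) : ι → F) = (h : OG Q) • (x : ι → F) := rfl

theorem coe_eich (U : Submodule F (ι → F)) (e u x : ↥U) :
    ((eich (Q.comp U.subtype) e u x : ↥U) : ι → F) = eich Q (e : ι → F) u x := by
  rw [eich_apply, eich_apply, polar_comp_subtype, polar_comp_subtype]
  simp only [Submodule.coe_sub, Submodule.coe_add, Submodule.coe_smul, QuadraticMap.comp_apply,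
    Submodule.subtype_apply]

set_option maxHeartbeats 1600000 in
/-- an odd order group of isometries preserving `U` and normalized by the Eichler
transformations of `U` acts trivially on `U` -/
theorem fix_of_odd (h2 : (2 : F) ≠ 0) (hQ : (polarBilin Q).Nondegenerate)
    (U : Submodule F (ι → F)) (hU : (polarBilin (Q.comp U.subtype)).Nondegenerate)
    (hd : Module.finrank F U = 3 ∨ 5 ≤ Module.finrank F U) (H : Subgroup (OG Q))
    (hodd : Odd (Nat.card H)) (hpres : ∀ h ∈ H, ∀ x ∈ U, h • x ∈ U)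
    (hnorm : ∀ e ∈ U, ∀ u ∈ U, Q e = 0 → polar Q e u = 0 → ∀ h ∈ H,
      Es hQ e u * h * (Es hQ e u)⁻¹ ∈ H) :
    ∀ h ∈ H, ∀ x ∈ U, h • x = x := by
  have hmain := nc_main (Q.comp U.subtype) h2 hU hd (restrHom U H hpres).range
    (Odd.of_dvd_nat hodd (Subgroup.card_range_dvd _))
    (by
      rintro _ ⟨h, rfl⟩ x
      rw [QuadraticMap.comp_apply, QuadraticMap.comp_apply, Submodule.subtype_apply,
        Submodule.subtype_apply, restrHom_coe, Q_smul])
    (by
      rintro e u he heu _ ⟨h, rfl⟩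
      have he' : Q (e : ι → F) = 0 := he
      have heu' : polar Q (e : ι → F) (u : ι → F) = 0 := by
        rw [← polar_comp_subtype]; exact heu
      refine ⟨⟨Es hQ e u * (h : OG Q) * (Es hQ e u)⁻¹, hnorm e e.2 u u.2 he' heu' _ h.2⟩, ?_⟩
      apply LinearEquiv.ext
      intro x
      apply Subtype.ext
      rw [restrHom_coe, LinearEquiv.mul_apply, LinearEquiv.mul_apply, eichE_apply, coe_eich,
        restrHom_coe]
      show (Es hQ e u * (h : OG Q) * (Es hQ e u)⁻¹) • (x : ι → F) = _
      have h3 : (((eichE (Q.comp U.subtype) e u he heu)⁻¹ x : ↥U) : ι → F) =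
          (Es hQ e u)⁻¹ • (x : ι → F) := by
        show (((eichE (Q.comp U.subtype) e u he heu).symm x : ↥U) : ι → F) = _
        rw [eichE_symm_apply, coe_eich, Es_inv hQ he' heu', Es_eq_eich hQ he'
          (by rw [polar_neg_right, heu', neg_zero])]
        rfl
      rw [h3, mul_smul, mul_smul, Es_eq_eich hQ he' heu'])
  intro h hh x hx
  have := hmain _ ⟨⟨h, hh⟩, rfl⟩ ⟨x, hx⟩
  exact congrArg Subtype.val this

/-- the one-dimensional case -/
theorem fix_of_odd_one (U : Submodule F (ι → F))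
    (hU : (polarBilin (Q.comp U.subtype)).Nondegenerate)
    (hd : Module.finrank F U = 1) (h : OG Q) (n : ℕ) (hn : Odd n) (hpow : h ^ n = 1)
    (hpres : ∀ x ∈ U, h • x ∈ U) : ∀ x ∈ U, h • x = x := by
  obtain ⟨v, hv⟩ := finrank_eq_one_iff'.1 hd
  obtain ⟨hv0, hv⟩ := hv
  have hQv : Q (v : ι → F) ≠ 0 := by
    intro h0
    apply hv0
    apply hU.1
    intro y
    obtain ⟨c, rfl⟩ := hv y
    show polar (Q.comp U.subtype) v (c • v) = 0
    rw [polar_comp_subtype, Submodule.coe_smul, polar_smul_right, QuadraticMap.polar_self, h0]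
    simp
  obtain ⟨c, hc⟩ := hv ⟨h • (v : ι → F), hpres _ v.2⟩
  have hc' : h • (v : ι → F) = c • (v : ι → F) := by
    have := congrArg Subtype.val hc
    simpa using this.symm
  have hcc : c * c = 1 := by
    have h3 := Q_smul h (v : ι → F)
    rw [hc', QuadraticMap.map_smul, smul_eq_mul] at h3
    have h4 : (c * c - 1) * Q (v : ι → F) = 0 := by linear_combination h3
    rcases mul_eq_zero.1 h4 with h5 | h5
    · exact sub_eq_zero.1 h5
    · exact absurd h5 hQv
  have hpw : ∀ m : ℕ, (h ^ m) • (v : ι → F) = c ^ m • (v : ι → F) := by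
    intro m
    induction m with
    | zero => simp
    | succ m ih => rw [pow_succ, mul_smul, hc', smul_comm, ih, smul_smul, pow_succ, mul_comm]
  obtain ⟨m, hm⟩ := hn
  have hc1 : c = 1 := by
    have h3 := hpw n
    rw [hpow, one_smul] at h3
    have h4 : c ^ n = c := by
      rw [hm, pow_succ, pow_mul, pow_two, hcc, one_pow, one_mul]
    rw [h4] at h3
    have h5 : (c - 1) • (v : ι → F) = 0 := by rw [sub_smul, one_smul, ← h3, sub_self]
    rcases smul_eq_zero.1 h5 with h6 | h6
    · exact sub_eq_zero.1 h6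
    · exact absurd (Subtype.ext h6) hv0
  intro x hx
  obtain ⟨d, hd'⟩ := hv ⟨x, hx⟩
  have hx' : x = d • (v : ι → F) := by
    have := congrArg Subtype.val hd'
    simpa using this.symm
  rw [hx', smul_comm, hc', hc1, one_smul]

end Restr

end Cfsg.Agent.Lib.Helper5.GInv
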