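import Mathlib
import Cfsg.Agent.Lib.Helper5.GInv.Restr

set_option autoImplicit false

/-! A semilinear similarity commuting with the Eichler transformations of a nondegenerate
subspace of dimension at least three acts on it as a scalar, and is linear. -/

namespace Cfsg.Agent.Lib.Helper5.GInv

open Matrix QuadraticMap
open Cfsg.Agent.Lib.Helper5.PGO Cfsg.Agent.Lib.Helper5.OAut Cfsg.Agent.Lib.Helper5.OFld
open Cfsg.Agent.Lib.Helper2 Cfsg.Agent.Lib.Helper2.LongRoot

section RestrSL
variable {F : Type*} [Field F] [Fintype F] {ι : Type} [Fintype ι] [DecidableEq ι]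
variable {Q : QuadraticForm F (ι → F)}

set_option maxHeartbeats 1600000 in
theorem scalar_on_of_comm (h2 : (2 : F) ≠ 0) (hQ : (polarBilin Q).Nondegenerate)
    (U : Submodule F (ι → F)) (hU : (polarBilin (Q.comp U.subtype)).Nondegenerate)
    (hd : 3 ≤ Module.finrank F U) {f : (ι → F) → (ι → F)} {σ : F ≃+* F} {κ : F}
    (hf : QSemi Q f σ κ)
    (hcomm : ∀ e ∈ U, ∀ u ∈ U, Q e = 0 → polar Q e u = 0 →
      ∀ x, f (Es hQ e u • x) = Es hQ e u • f x) :
    (∀ t, σ t = t) ∧ ∃ c : F, ∀ x ∈ U, f x = c • x := by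
  set QU := Q.comp U.subtype with hQU
  -- singular points of `U` are fixed
  have hfixU : ∀ e : ↥U, e ≠ 0 → QU e = 0 → ∃ c : F, f (e : ι → F) = c • (e : ι → F) := by
    intro e he0 he
    obtain ⟨p, hep, hp⟩ := exists_partner QU hU he0 he
    obtain ⟨u, heu, -, hu⟩ := exists_nonsing_perp_pair QU hU hd he hp hep
    have he0' : (e : ι → F) ≠ 0 := fun h => he0 (Subtype.ext h)
    have heu' : polar Q (e : ι → F) (u : ι → F) = 0 := by
      rw [← polar_comp_subtype]; exact heu
    exact fix_pt_of_comm h2 hQ hf he0' he heu' hu (hcomm e e.2 u u.2 he heu')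
  -- `f` preserves `U`
  obtain ⟨e₀, he₀0, he₀⟩ := exists_singular_of_finrank QU hd
  obtain ⟨p₀, hep₀, hp₀⟩ := exists_partner QU hU he₀0 he₀
  have hp₀0 : p₀ ≠ 0 := ne_zero_of_polar_ne QU (by rw [hep₀]; exact one_ne_zero)
  have hpe₀ : polar QU p₀ e₀ = 1 := by rw [polar_comm]; exact hep₀
  have hsingU : ∀ e : ↥U, QU e = 0 → f (e : ι → F) ∈ U := by
    intro e he
    by_cases he0 : e = 0
    · rw [he0, Submodule.coe_zero, hf.zero]
      exact U.zero_mem
    · obtain ⟨c, hc⟩ := hfixU e he0 he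
      rw [hc]
      exact U.smul_mem _ e.2
  have hpresU : ∀ x : ↥U, f (x : ι → F) ∈ U := by
    intro x
    obtain ⟨w, hw⟩ : ∃ w : ↥U, w = x - polar QU p₀ x • e₀ - polar QU e₀ x • p₀ := ⟨_, rfl⟩
    have hew : polar QU e₀ w = 0 := by
      rw [hw, polar_sub_right, polar_sub_right, polar_smul_right, polar_smul_right,
        polar_self_sing QU he₀, hep₀]
      simp
    have hpw : polar QU p₀ w = 0 := by
      rw [hw, polar_sub_right, polar_sub_right, polar_smul_right, polar_smul_right,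
        polar_self_sing QU hp₀, hpe₀]
      simp
    obtain ⟨v, hv⟩ : ∃ v : ↥U, v = p₀ + w - QU w • e₀ := ⟨_, rfl⟩
    have hvQ : QU v = 0 := by
      have h3 : v = (1 : F) • p₀ + (1 : F) • w + (-(QU w)) • e₀ := by rw [hv]; module
      rw [h3, map_lin3, hp₀, he₀, hpw, hpe₀, polar_comm QU w e₀, hew]
      ring
    have hx : (x : ι → F) = (polar QU p₀ x + QU w) • (e₀ : ι → F)
        + (polar QU e₀ x - 1) • (p₀ : ι → F) + (v : ι → F) := by
      have h3 : x = (polar QU p₀ x + QU w) • e₀ + (polar QU e₀ x - 1) • p₀ + v := by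
        rw [hv, hw]; module
      have := congrArg (Subtype.val) h3
      simpa using this
    rw [hx, hf.add, hf.add, hf.smul, hf.smul]
    exact U.add_mem (U.add_mem (U.smul_mem _ (hsingU e₀ he₀)) (U.smul_mem _ (hsingU p₀ hp₀)))
      (hsingU v hvQ)
  -- the restriction
  have hinj := hf.injective hQ
  obtain ⟨hσ, c, hc⟩ := sl_main QU h2 hU hd (⇑σ) (map_one σ) (map_ofNat σ 2)
    (fun x : ↥U => (⟨f (x : ι → F), hpresU x⟩ : ↥U))
    (fun x y => by
      apply Subtype.ext
      show f ((x : ι → F) + (y : ι → F)) = f x + f y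
      exact hf.add _ _)
    (fun t x => by
      apply Subtype.ext
      show f (t • (x : ι → F)) = σ t • f x
      exact hf.smul _ _)
    (fun x hx => by
      have h3 : f (x : ι → F) = 0 := congrArg Subtype.val hx
      rw [← hf.zero] at h3
      exact Subtype.ext (hinj h3))
    (fun e he0 he => by
      obtain ⟨c, hc⟩ := hfixU e he0 he
      exact ⟨c, Subtype.ext hc⟩)
  refine ⟨hσ, c, fun x hx => ?_⟩
  have := hc ⟨x, hx⟩
  exact congrArg Subtype.val this

end RestrSL

end Cfsg.Agent.Lib.Helper5.GInv
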