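import Mathlib
import Cfsg.Agent.Lib.Helper5.GInv.Restr
import Cfsg.Agent.Lib.Helper5.GInv.RestrSL
import Cfsg.Agent.Lib.Helper5.GInv.Conc

set_option autoImplicit false

/-! Orthogonal decompositions `V = U₁ ⊥ U₂` and isometries acting as `±1` on the summands. -/

namespace Cfsg.Agent.Lib.Helper5.GInv

open Matrix QuadraticMap
open Cfsg.Agent.Lib.Helper5.PGO Cfsg.Agent.Lib.Helper5.OAut Cfsg.Agent.Lib.Helper5.OFld
open Cfsg.Agent.Lib.Helper2

section Abs
variable {k W : Type*} [Field k] [AddCommGroup W] [Module k W]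

theorem nondeg_of_sep (Q : QuadraticForm k W) (h : ∀ x, (∀ y, polar Q x y = 0) → x = 0) :
    (polarBilin Q).Nondegenerate := by
  refine ⟨fun x hx => h x hx, fun x hx => h x (fun y => ?_)⟩
  rw [polar_comm]
  exact hx y

/-- the restriction to an orthogonal summand is nondegenerate -/
theorem nondeg_of_isCompl_perp (Q : QuadraticForm k W) (hQ : (polarBilin Q).Nondegenerate)
    (U U' : Submodule k W) (hc : IsCompl U U')
    (hperp : ∀ u ∈ U, ∀ w ∈ U', polar Q u w = 0) :
    (polarBilin (Q.comp U.subtype)).Nondegenerate := by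
  apply nondeg_of_sep
  intro x hx
  apply Subtype.ext
  apply hQ.1
  intro y
  have hy : y ∈ U ⊔ U' := by rw [hc.sup_eq_top]; trivial
  obtain ⟨y₁, hy₁, y₂, hy₂, rfl⟩ := Submodule.mem_sup.1 hy
  show polar Q (x : W) (y₁ + y₂) = 0
  rw [polar_add_right, hperp _ x.2 _ hy₂, add_zero]
  have := hx ⟨y₁, hy₁⟩
  rw [polar_comp_subtype] at this
  exact this

/-- a nondegenerate form on a nonzero space has nonsingular vectors -/
theorem exists_nonsing_of_nondeg (Q : QuadraticForm k W) (h2 : (2 : k) ≠ 0)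
    (hQ : (polarBilin Q).Nondegenerate) (hW : ∃ x : W, x ≠ 0) : ∃ v, Q v ≠ 0 := by
  by_contra hcon
  push Not at hcon
  obtain ⟨x, hx⟩ := hW
  apply hx
  apply hQ.1
  intro y
  show polar Q x y = 0
  unfold polar
  rw [hcon, hcon, hcon]
  ring

end Abs

section Conc
variable {F : Type*} [Field F] [Fintype F] {ι : Type} [Fintype ι] [DecidableEq ι]
variable {Q : QuadraticForm F (ι → F)}

theorem Es_eps (hQ : (polarBilin Q).Nondegenerate) {e u : ι → F} (he : Q e = 0)
    (heu : polar Q e u = 0) (ε : F) (hε : ε * ε = 1) :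
    Es hQ (ε • e) (ε • u) = Es hQ e u := by
  have he' : Q (ε • e) = 0 := by rw [QuadraticMap.map_smul, he, smul_zero]
  have heu' : polar Q (ε • e) (ε • u) = 0 := by
    rw [polar_smul_left, polar_smul_right, heu, smul_zero, smul_zero]
  apply ext_smul
  intro x
  rw [Es_smul hQ he heu, Es_smul hQ he' heu', polar_smul_left, polar_smul_left,
    QuadraticMap.map_smul]
  simp only [smul_smul, smul_eq_mul]
  have e1 : ε * polar (⇑Q) e x * ε = polar (⇑Q) e x := by
    calc ε * polar (⇑Q) e x * ε = (ε * ε) * polar (⇑Q) e x := by ring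
      _ = polar (⇑Q) e x := by rw [hε, one_mul]
  have e2 : ε * polar (⇑Q) u x * ε = polar (⇑Q) u x := by
    calc ε * polar (⇑Q) u x * ε = (ε * ε) * polar (⇑Q) u x := by ring
      _ = polar (⇑Q) u x := by rw [hε, one_mul]
  have e3 : ε * ε * Q u * (ε * polar (⇑Q) e x) * ε = Q u * polar (⇑Q) e x := by
    calc ε * ε * Q u * (ε * polar (⇑Q) e x) * ε
        = (ε * ε) * (ε * ε) * (Q u * polar (⇑Q) e x) := by ring
      _ = Q u * polar (⇑Q) e x := by rw [hε, one_mul, one_mul]
  rw [e1, e2, e3]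

/-- an isometry acting as `ε = ±1` on `e` and `u` commutes with `E(e, u)` -/
theorem comm_Es_of_eigen (hQ : (polarBilin Q).Nondegenerate) (G : OG Q) {e u : ι → F}
    (he : Q e = 0) (heu : polar Q e u = 0) (ε : F) (hε : ε * ε = 1)
    (hGe : G • e = ε • e) (hGu : G • u = ε • u) :
    G * Es hQ e u = Es hQ e u * G := by
  have h1 := conj_Es hQ G he heu
  rw [hGe, hGu, Es_eps hQ he heu ε hε] at h1
  calc G * Es hQ e u = (G * Es hQ e u * G⁻¹) * G := by group
    _ = Es hQ e u * G := by rw [h1]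

theorem Es_zero_left (hQ : (polarBilin Q).Nondegenerate) (u : ι → F) : Es hQ 0 u = 1 := by
  apply ext_smul
  intro x
  rw [Es_smul hQ (map_zero _) (by simp), one_smul]
  simp

end Conc

end Cfsg.Agent.Lib.Helper5.GInv
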