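import Mathlib
import Cfsg.Agent.Lib.Helper5.GInv.Split

set_option autoImplicit false

/-! Class 1, part (a): odd order groups preserving an orthogonal decomposition into two odd
dimensional summands and normalized by their Eichler transformations are trivial. -/

namespace Cfsg.Agent.Lib.Helper5.GInv

open Matrix QuadraticMap
open Cfsg.Agent.Lib.Helper5.PGO Cfsg.Agent.Lib.Helper5.OAut Cfsg.Agent.Lib.Helper5.OFld
open Cfsg.Agent.Lib.Helper2

section Conc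
variable {F : Type*} [Field F] [Fintype F] {ι : Type} [Fintype ι] [DecidableEq ι]
variable {Q : QuadraticForm F (ι → F)}

theorem odd_cases {n : ℕ} (hn : Odd n) : n = 1 ∨ n = 3 ∨ 5 ≤ n := by
  obtain ⟨k, rfl⟩ := hn
  rcases k with _ | _ | k
  · left; rfl
  · right; left; rfl
  · right; right; omega

/-- the action on one summand is trivial -/
theorem fix_summand (h2 : (2 : F) ≠ 0) (hQ : (polarBilin Q).Nondegenerate)
    (U : Submodule F (ι → F)) (hU : (polarBilin (Q.comp U.subtype)).Nondegenerate)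
    (hd : Odd (Module.finrank F U)) (H : Subgroup (OG Q)) [Finite H]
    (hodd : Odd (Nat.card H)) (hpres : ∀ h ∈ H, ∀ x ∈ U, h • x ∈ U)
    (hnorm : ∀ e ∈ U, ∀ u ∈ U, e ≠ 0 → Q e = 0 → polar Q e u = 0 → ∀ h ∈ H,
      Es hQ e u * h * (Es hQ e u)⁻¹ ∈ H) :
    ∀ h ∈ H, ∀ x ∈ U, h • x = x := by
  have hnorm' : ∀ e ∈ U, ∀ u ∈ U, Q e = 0 → polar Q e u = 0 → ∀ h ∈ H,
      Es hQ e u * h * (Es hQ e u)⁻¹ ∈ H := by
    intro e he u hu hQe heu h hh
    by_cases he0 : e = 0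
    · rw [he0, Es_zero_left, one_mul, inv_one, mul_one]
      exact hh
    · exact hnorm e he u hu he0 hQe heu h hh
  rcases odd_cases hd with h1 | h3 | h5
  · intro h hh
    have hpow : h ^ Nat.card H = 1 := by
      have := pow_card_eq_one' (G := ↥H) (x := ⟨h, hh⟩)
      have h2 := congrArg Subtype.val this
      rw [Subgroup.coe_pow, Subgroup.coe_one] at h2
      exact h2
    exact fix_of_odd_one U hU h1 h (Nat.card H) hodd hpow (hpres h hh)
  · exact fix_of_odd h2 hQ U hU (Or.inl h3) H hodd hpres hnorm'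
  · exact fix_of_odd h2 hQ U hU (Or.inr h5) H hodd hpres hnorm'

/-- odd order groups preserving both summands and normalized by their Eichler transformations
are trivial -/
theorem trivial_of_split (h2 : (2 : F) ≠ 0) (hQ : (polarBilin Q).Nondegenerate)
    (U₁ U₂ : Submodule F (ι → F)) (hc : IsCompl U₁ U₂)
    (hperp : ∀ u ∈ U₁, ∀ w ∈ U₂, polar Q u w = 0)
    (hd₁ : Odd (Module.finrank F U₁)) (hd₂ : Odd (Module.finrank F U₂))
    (H : Subgroup (OG Q)) [Finite H] (hodd : Odd (Nat.card H))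
    (hpres₁ : ∀ h ∈ H, ∀ x ∈ U₁, h • x ∈ U₁) (hpres₂ : ∀ h ∈ H, ∀ x ∈ U₂, h • x ∈ U₂)
    (hnorm : ∀ e u : ι → F, (e ∈ U₁ ∧ u ∈ U₁ ∨ e ∈ U₂ ∧ u ∈ U₂) → e ≠ 0 → Q e = 0 →
      polar Q e u = 0 → ∀ h ∈ H, Es hQ e u * h * (Es hQ e u)⁻¹ ∈ H) :
    ∀ h ∈ H, h = 1 := by
  have hU₁ := nondeg_of_isCompl_perp Q hQ U₁ U₂ hc hperp
  have hU₂ := nondeg_of_isCompl_perp Q hQ U₂ U₁ hc.symm
    (fun u hu w hw => by rw [polar_comm]; exact hperp w hw u hu)
  have hf₁ := fix_summand h2 hQ U₁ hU₁ hd₁ H hodd hpres₁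
    (fun e he u hu he0 hQe heu h hh => hnorm e u (Or.inl ⟨he, hu⟩) he0 hQe heu h hh)
  have hf₂ := fix_summand h2 hQ U₂ hU₂ hd₂ H hodd hpres₂
    (fun e he u hu he0 hQe heu h hh => hnorm e u (Or.inr ⟨he, hu⟩) he0 hQe heu h hh)
  intro h hh
  apply ext_smul
  intro x
  have hx : x ∈ U₁ ⊔ U₂ := by rw [hc.sup_eq_top]; trivial
  obtain ⟨x₁, hx₁, x₂, hx₂, rfl⟩ := Submodule.mem_sup.1 hx
  rw [smul_add, hf₁ h hh x₁ hx₁, hf₂ h hh x₂ hx₂, one_smul]

end Conc

end Cfsg.Agent.Lib.Helper5.GInv
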