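import Mathlib
import Cfsg.Agent.Lib.Helper5.GInv.Split

set_option autoImplicit false

/-! Class 1, part (b): semilinear similarities commuting with the Eichler transformations of
both summands of an orthogonal decomposition. -/

namespace Cfsg.Agent.Lib.Helper5.GInv

open Matrix QuadraticMap
open Cfsg.Agent.Lib.Helper5.PGO Cfsg.Agent.Lib.Helper5.OAut Cfsg.Agent.Lib.Helper5.OFld
open Cfsg.Agent.Lib.Helper2

section Conc
variable {F : Type*} [Field F] [Fintype F] {ι : Type} [Fintype ι] [DecidableEq ι]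
variable {Q : QuadraticForm F (ι → F)}

theorem odd_cases_aux {n : ℕ} (hn : Odd n) : n = 1 ∨ 3 ≤ n := by
  obtain ⟨k, rfl⟩ := hn
  rcases k with _ | k
  · left; rfl
  · right; omega

theorem exists_ne_zero_of_finrank (U : Submodule F (ι → F)) (hd : 1 ≤ Module.finrank F U) :
    ∃ x : ↥U, x ≠ 0 := by
  haveI : Nontrivial ↥U := (Module.finrank_pos_iff (R := F) (M := ↥U)).1 hd
  exact exists_ne 0

set_option maxHeartbeats 800000 in
theorem scalar_pair (h2 : (2 : F) ≠ 0) (hQ : (polarBilin Q).Nondegenerate)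
    (U U' : Submodule F (ι → F)) (hc : IsCompl U U')
    (hperp : ∀ u ∈ U, ∀ w ∈ U', polar Q u w = 0)
    (hd : 3 ≤ Module.finrank F U) (hd' : Odd (Module.finrank F U'))
    {f : (ι → F) → (ι → F)} {σ : F ≃+* F} {κ : F} (hf : QSemi Q f σ κ)
    (hcomm : ∀ e u : ι → F, (e ∈ U ∧ u ∈ U ∨ e ∈ U' ∧ u ∈ U') → Q e = 0 → polar Q e u = 0 →
      ∀ x, f (Es hQ e u • x) = Es hQ e u • f x) :
    (∀ t, σ t = t) ∧ ∃ c c' : F, c ≠ 0 ∧ (∀ x ∈ U, f x = c • x) ∧ (∀ x ∈ U', f x = c' • x) ∧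
      c' * c' = c * c := by
  have hU := nondeg_of_isCompl_perp Q hQ U U' hc hperp
  have hperp' : ∀ u ∈ U', ∀ w ∈ U, polar Q u w = 0 :=
    fun u hu w hw => by rw [polar_comm]; exact hperp w hw u hu
  have hU' := nondeg_of_isCompl_perp Q hQ U' U hc.symm hperp'
  obtain ⟨hσ, c, hc1⟩ := scalar_on_of_comm h2 hQ U hU hd hf
    (fun e he u hu => hcomm e u (Or.inl ⟨he, hu⟩))
  refine ⟨hσ, ?_⟩
  have hinj := hf.injective hQ
  obtain ⟨x₀, hx₀⟩ := exists_ne_zero_of_finrank U (by omega)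
  have hc0 : c ≠ 0 := by
    rintro rfl
    have h1 := hc1 x₀ x₀.2
    rw [zero_smul, ← hf.zero] at h1
    exact hx₀ (Subtype.ext (hinj h1))
  -- the multiplier
  obtain ⟨v, hv⟩ := exists_nonsing_of_nondeg (Q.comp U.subtype) h2 hU ⟨x₀, hx₀⟩
  have hκ : κ = c * c := by
    have h1 := hf.form (v : ι → F)
    rw [hc1 v v.2, QuadraticMap.map_smul, hσ, smul_eq_mul] at h1
    have hv' : Q (v : ι → F) ≠ 0 := hv
    exact (mul_right_cancel₀ hv' h1).symm
  -- the other summand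
  have hex : ∃ c' : F, ∀ x ∈ U', f x = c' • x := by
    rcases odd_cases_aux hd' with h1 | h3
    · -- dimension one
      obtain ⟨w, hw⟩ := finrank_eq_one_iff'.1 h1
      obtain ⟨hw0, hw⟩ := hw
      have hfwU : ∀ u ∈ U, polar Q (f (w : ι → F)) u = 0 := by
        intro u hu
        have hcu : c⁻¹ • u ∈ U := U.smul_mem _ hu
        have h3 : f (c⁻¹ • u) = u := by
          rw [hc1 _ hcu, smul_smul, mul_inv_cancel₀ hc0, one_smul]
        rw [← h3, hf.polar, hperp' _ w.2 _ hcu, map_zero, mul_zero]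
      have hfw : f (w : ι → F) ∈ U' := by
        have hx : f (w : ι → F) ∈ U ⊔ U' := by rw [hc.sup_eq_top]; trivial
        obtain ⟨a, ha, b, hb, hab⟩ := Submodule.mem_sup.1 hx
        have ha0 : (⟨a, ha⟩ : ↥U) = 0 := by
          apply hU.1
          intro y
          show polar (Q.comp U.subtype) ⟨a, ha⟩ y = 0
          rw [polar_comp_subtype]
          show polar Q a (y : ι → F) = 0
          have h5 := hfwU y y.2
          rw [← hab, polar_add_left, hperp' b hb _ y.2, add_zero] at h5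
          exact h5
        have ha0' : a = 0 := congrArg Subtype.val ha0
        rw [← hab, ha0', zero_add]
        exact hb
      obtain ⟨c', hc'⟩ := hw ⟨_, hfw⟩
      have hc'' : f (w : ι → F) = c' • (w : ι → F) := (congrArg Subtype.val hc').symm
      refine ⟨c', fun x hx => ?_⟩
      obtain ⟨t, ht⟩ := hw ⟨x, hx⟩
      have ht' : x = t • (w : ι → F) := (congrArg Subtype.val ht).symm
      rw [ht', hf.smul, hσ, hc'', smul_comm]
    · obtain ⟨-, c', hc'⟩ := scalar_on_of_comm h2 hQ U' hU' h3 hf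
        (fun e he u hu => hcomm e u (Or.inr ⟨he, hu⟩))
      exact ⟨c', hc'⟩
  obtain ⟨c', hc'⟩ := hex
  refine ⟨c, c', hc0, hc1, hc', ?_⟩
  have hd1 : 1 ≤ Module.finrank F U' := by
    obtain ⟨k, hk⟩ := hd'
    omega
  obtain ⟨y₀, hy₀⟩ := exists_ne_zero_of_finrank U' hd1
  obtain ⟨v', hv'⟩ := exists_nonsing_of_nondeg (Q.comp U'.subtype) h2 hU' ⟨y₀, hy₀⟩
  have h1 := hf.form (v' : ι → F)
  rw [hc' v' v'.2, QuadraticMap.map_smul, hσ, smul_eq_mul, hκ] at h1
  have hv'' : Q (v' : ι → F) ≠ 0 := hv'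
  exact mul_right_cancel₀ hv'' h1

end Conc

end Cfsg.Agent.Lib.Helper5.GInv
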