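import Mathlib

set_option autoImplicit false

/-! Lifting a subgroup of odd order through a central quotient with kernel of exponent two. -/

namespace Cfsg.Agent.Lib.Helper5.GInv

section OddLift

theorem pow_odd_of_mul_self {G : Type*} [Group G] {z : G} (hz : z * z = 1) {n : ℕ}
    (hn : Odd n) : z ^ n = z := by
  obtain ⟨k, rfl⟩ := hn
  rw [pow_succ, pow_mul, pow_two, hz, one_pow, one_mul]

/-- a central subgroup of exponent two and odd index has a unique complement, consisting of the
elements of odd order dividing the index -/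
theorem odd_complement {G : Type*} [Group G] [Finite G] (Z : Subgroup G)
    (hZc : Z ≤ Subgroup.center G) (hZ2 : ∀ z ∈ Z, z * z = 1) (hodd : Odd Z.index) :
    ∃ H : Subgroup G, Nat.card H = Z.index ∧ (∀ s, s ∈ H ↔ s ^ Z.index = 1) ∧
      ∀ s : G, ∃ z ∈ Z, ∃ h ∈ H, s = z * h := by
  classical
  haveI : Z.Normal := by
    refine ⟨fun z hz g => ?_⟩
    have := Subgroup.mem_center_iff.1 (hZc hz) g
    rw [this, mul_inv_cancel_right]
    exact hz
  have hpg : IsPGroup 2 Z := by
    intro z
    refine ⟨1, ?_⟩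
    rw [pow_one, pow_two]
    apply Subtype.ext
    rw [Subgroup.coe_mul, Subgroup.coe_one]
    exact hZ2 _ z.2
  obtain ⟨k, hk⟩ := IsPGroup.iff_card.1 hpg
  have hcop : (Nat.card Z).Coprime Z.index := by
    rw [hk]
    exact Nat.Coprime.pow_left k (Nat.coprime_two_left.2 hodd)
  obtain ⟨H, hH⟩ := Subgroup.exists_right_complement'_of_coprime hcop
  have hcard : Nat.card H = Z.index := hH.symm.index_eq_card.symm
  have hdec : ∀ s : G, ∃ z ∈ Z, ∃ h ∈ H, s = z * h := by
    intro s
    obtain ⟨⟨z, h⟩, hzh, -⟩ := (Subgroup.isComplement_iff_existsUnique.1 hH) s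
    exact ⟨z.1, z.2, h.1, h.2, hzh.symm⟩
  refine ⟨H, hcard, fun s => ⟨fun hs => ?_, fun hs => ?_⟩, hdec⟩
  · have := pow_card_eq_one' (G := ↥H) (x := ⟨s, hs⟩)
    rw [hcard] at this
    have h2 := congrArg Subtype.val this
    rw [Subgroup.coe_pow, Subgroup.coe_one] at h2
    exact h2
  · obtain ⟨z, hz, h, hh, rfl⟩ := hdec s
    have hcomm : Commute z h := (Subgroup.mem_center_iff.1 (hZc hz) h).symm
    rw [hcomm.mul_pow, pow_odd_of_mul_self (hZ2 z hz) hodd] at hs
    have hh' : h ^ Z.index = 1 := by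
      have := pow_card_eq_one' (G := ↥H) (x := ⟨h, hh⟩)
      rw [hcard] at this
      have h2 := congrArg Subtype.val this
      rw [Subgroup.coe_pow, Subgroup.coe_one] at h2
      exact h2
    rw [hh', mul_one] at hs
    rw [hs, one_mul]
    exact hh

/-- lifting a subgroup of odd order through a homomorphism with central kernel of exponent two -/
theorem exists_odd_lift {G G' : Type*} [Group G] [Finite G] [Group G'] (π : G →* G')
    (hker : π.ker ≤ Subgroup.center G) (hk2 : ∀ z ∈ π.ker, z * z = 1)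
    (D : Subgroup G') (hD : D ≤ π.range) (hodd : Odd (Nat.card D)) :
    ∃ H : Subgroup G, Nat.card H = Nat.card D ∧ H.map π = D ∧
      ∀ s, s ∈ H ↔ (π s ∈ D ∧ s ^ Nat.card D = 1) := by
  classical
  set P : Subgroup G := D.comap π with hP
  set Z : Subgroup ↥P := π.ker.subgroupOf P with hZ
  -- the restriction of `π` to `P`
  let πP : ↥P →* ↥D := (π.comp P.subtype).codRestrict D (fun s => s.2)
  have hπP : ∀ s : ↥P, ((πP s : ↥D) : G') = π (s : G) := fun s => rfl
  have hsurj : Function.Surjective πP := by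
    intro d
    obtain ⟨s, hs⟩ := hD d.2
    refine ⟨⟨s, ?_⟩, ?_⟩
    · show π s ∈ D
      rw [hs]
      exact d.2
    · apply Subtype.ext
      rw [hπP]
      exact hs
  have hkerP : πP.ker = Z := by
    ext s
    rw [MonoidHom.mem_ker, hZ, Subgroup.mem_subgroupOf, MonoidHom.mem_ker]
    constructor
    · intro h
      have := congrArg Subtype.val h
      rw [hπP, Subgroup.coe_one] at this
      exact this
    · intro h
      apply Subtype.ext
      rw [hπP, Subgroup.coe_one]
      exact h
  have hidx : Z.index = Nat.card D := by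
    rw [← hkerP, Subgroup.index_ker, MonoidHom.range_eq_top.2 hsurj]
    exact Subgroup.card_top
  have hZc : Z ≤ Subgroup.center ↥P := by
    intro z hz
    rw [hZ, Subgroup.mem_subgroupOf] at hz
    rw [Subgroup.mem_center_iff]
    intro g
    apply Subtype.ext
    rw [Subgroup.coe_mul, Subgroup.coe_mul]
    exact Subgroup.mem_center_iff.1 (hker hz) g
  have hZ2 : ∀ z ∈ Z, z * z = 1 := by
    intro z hz
    rw [hZ, Subgroup.mem_subgroupOf] at hz
    apply Subtype.ext
    rw [Subgroup.coe_mul, Subgroup.coe_one]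
    exact hk2 _ hz
  obtain ⟨H, hcard, hmem, hdec⟩ := odd_complement Z hZc hZ2 (by rw [hidx]; exact hodd)
  rw [hidx] at hcard hmem
  have hmem' : ∀ s, s ∈ H.map P.subtype ↔ (π s ∈ D ∧ s ^ Nat.card D = 1) := by
    intro s
    constructor
    · rintro ⟨t, ht, rfl⟩
      refine ⟨t.2, ?_⟩
      have := (hmem t).1 ht
      have h2 := congrArg Subtype.val this
      rw [Subgroup.coe_pow, Subgroup.coe_one] at h2
      exact h2
    · rintro ⟨h1, h2⟩
      refine ⟨⟨s, h1⟩, (hmem _).2 ?_, rfl⟩
      apply Subtype.ext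
      rw [Subgroup.coe_pow, Subgroup.coe_one]
      exact h2
  refine ⟨H.map P.subtype, ?_, ?_, hmem'⟩
  · rw [Subgroup.card_map_of_injective P.subtype_injective, hcard]
  · apply le_antisymm
    · rintro _ ⟨s, hs, rfl⟩
      exact ((hmem' s).1 hs).1
    · intro d hd
      obtain ⟨s, hs⟩ := hD hd
      have hsP : s ∈ P := by
        show π s ∈ D
        rw [hs]
        exact hd
      obtain ⟨z, hz, h, hh, hzh⟩ := hdec ⟨s, hsP⟩
      refine ⟨(h : G), ⟨h, hh, rfl⟩, ?_⟩
      rw [hZ, Subgroup.mem_subgroupOf, MonoidHom.mem_ker] at hz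
      have := congrArg (fun t : ↥P => π (t : G)) hzh
      simp only [Subgroup.coe_mul, map_mul] at this
      rw [hz, one_mul] at this
      rw [← this]
      exact hs

end OddLift

end Cfsg.Agent.Lib.Helper5.GInv
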