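import Mathlib
import Cfsg.Agent.Lib.Helper5.GInv.Conc
import Cfsg.Agent.Lib.Helper5.GInv.OddLift

set_option autoImplicit false

/-! The generic argument: the centralizer of an involutory automorphism induced by a similarity
has no nontrivial normal subgroup of odd order, given enough unipotent elements commuting with
the similarity. -/

namespace Cfsg.Agent.Lib.Helper5.GInv

open Matrix QuadraticMap
open Cfsg.Agent.Lib.Helper5.PGO Cfsg.Agent.Lib.Helper5.OAut Cfsg.Agent.Lib.Helper5.OFld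
open Cfsg.Agent.Lib.Helper5.PSpBal
open Cfsg.Agent.Lib.Helper2 Cfsg.Agent.Lib.Helper2.LongRoot

section lifting
variable {G : Type*} [Group G] [Finite G] {𝔊 : Type*} [Group 𝔊] {ρ : G →* 𝔊}

theorem eq_of_pow_nat (n : ℕ) (hcop : (Nat.card (Subgroup.center G)).Coprime n) {x y : G}
    (hρ : CQ ρ) (hx : x ^ n = 1) (hy : y ^ n = 1) (h : ρ x = ρ y) : x = y := by
  have hz : y⁻¹ * x ∈ Subgroup.center G := by
    rw [← hρ.ker, map_mul, map_inv, h, inv_mul_cancel]
  have hcomm : Commute y (y⁻¹ * x) := ((Subgroup.mem_center_iff.1 hz) y)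
  have h1 : (y⁻¹ * x) ^ n = 1 := by
    have h2 : x = y * (y⁻¹ * x) := by group
    have h3 : x ^ n = y ^ n * (y⁻¹ * x) ^ n := by
      conv_lhs => rw [h2]
      exact hcomm.mul_pow n
    rw [hx, hy, one_mul] at h3
    exact h3.symm
  have h4 : y⁻¹ * x = 1 := by
    have k1 : orderOf (y⁻¹ * x) ∣ n := orderOf_dvd_of_pow_eq_one h1
    have k2 : orderOf (y⁻¹ * x) ∣ Nat.card (Subgroup.center G) := by
      have := orderOf_dvd_natCard (⟨y⁻¹ * x, hz⟩ : Subgroup.center G)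
      rwa [Subgroup.orderOf_mk] at this
    have k3 : orderOf (y⁻¹ * x) ∣ 1 := by
      have := Nat.dvd_gcd k2 k1
      rwa [hcop] at this
    exact orderOf_eq_one_iff.1 (Nat.dvd_one.1 k3)
  rw [inv_mul_eq_one] at h4
  exact h4.symm

end lifting

section Gen
variable {F : Type*} [Field F] [Fintype F] {ι : Type} [Fintype ι] [DecidableEq ι]
variable {Q : QuadraticForm F (ι → F)}

theorem center_Omega_mul_self (hQ : (polarBilin Q).Nondegenerate) (hn : 7 ≤ Fintype.card ι)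
    {z : ↥(Cfsg.Omega F (⇑Q))} (hz : z ∈ Subgroup.center ↥(Cfsg.Omega F (⇑Q))) : z * z = 1 := by
  have key : ∀ K : Subgroup (OG Q), K = T Q → ∀ z : ↥K, z ∈ Subgroup.center ↥K → z * z = 1 := by
    intro K hK
    subst hK
    intro z hz
    exact center_T_mul_self hQ hn hz
  exact key _ (T_eq_Omega hQ hn).symm z hz

theorem coprime_center_Omega_odd (hQ : (polarBilin Q).Nondegenerate) (hn : 7 ≤ Fintype.card ι)
    {n : ℕ} (hodd : Odd n) : (Nat.card (Subgroup.center ↥(Cfsg.Omega F (⇑Q)))).Coprime n := by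
  haveI := finite_omega (Q := Q)
  have hpg : IsPGroup 2 (Subgroup.center ↥(Cfsg.Omega F (⇑Q))) := by
    intro z
    refine ⟨1, ?_⟩
    rw [pow_one, pow_two]
    apply Subtype.ext
    rw [Subgroup.coe_mul, Subgroup.coe_one]
    exact center_Omega_mul_self hQ hn z.2
  obtain ⟨k, hk⟩ := IsPGroup.iff_card.1 hpg
  rw [hk]
  exact Nat.Coprime.pow_left k (Nat.coprime_two_left.2 hodd)

/-- an automorphism fixing the class of an element of order dividing the characteristic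
commutes with it -/
theorem conjS_of_fix (p : ℕ) [Fact p.Prime] [CharP F p]
    (hQ : (polarBilin Q).Nondegenerate) (hn : 7 ≤ Fintype.card ι)
    {g : GL ι F} {σ : F ≃+* F} (h : Cfsg.IsSemisimilarityPair (⇑Q) g σ)
    (s : ↥(Cfsg.Omega F (⇑Q))) (hsp : s ^ p = 1)
    (hfix : PhiS g σ h (QuotientGroup.mk s) = QuotientGroup.mk s) :
    conjS g σ h (s : OG Q) = (s : OG Q) := by
  haveI := finite_omega (Q := Q)
  have hcop : (Nat.card (Subgroup.center ↥(Cfsg.Omega F (⇑Q)))).Coprime p := by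
    have key : ∀ K : Subgroup (OG Q), K = T Q →
        (Nat.card (Subgroup.center ↥K)).Coprime p := by
      intro K hK
      subst hK
      exact coprime_card_center hQ hn p
    exact key _ (T_eq_Omega hQ hn).symm
  have hρ : CQ (QuotientGroup.mk' (Subgroup.center ↥(Cfsg.Omega F (⇑Q)))) := cq_mk'
  have hsp' : (resChar (commutator ↥(Cfsg.isometryGroup F ⇑Q)) (conjS g σ h) s) ^ p = 1 := by
    rw [← map_pow, hsp, map_one]
  have h2 : QuotientGroup.mk' (Subgroup.center ↥(Cfsg.Omega F (⇑Q)))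
      (resChar (commutator ↥(Cfsg.isometryGroup F ⇑Q)) (conjS g σ h) s) =
      QuotientGroup.mk' (Subgroup.center ↥(Cfsg.Omega F (⇑Q))) s := hfix
  have h3 := eq_of_pow p hcop hρ hsp' hsp h2
  exact congrArg (fun t : ↥(Cfsg.Omega F (⇑Q)) => (t : ↥(Cfsg.isometryGroup F ⇑Q))) h3

set_option maxHeartbeats 1600000 in
/-- the generic statement -/
theorem no_core_gen (r : ℕ) [Fact r.Prime] [CharP F r]
    (hQ : (polarBilin Q).Nondegenerate) (hn : 7 ≤ Fintype.card ι)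
    (hLag : ∀ T : Submodule F (ι → F), (∀ x ∈ T, Q x = 0) →
      (∀ y, (∀ x ∈ T, QuadraticMap.polar (⇑Q) x y = 0) → y ∈ T) → 5 ≤ Module.finrank F ↥T)
    (g₀ : GL ι F) (hg₀ : Cfsg.IsSemisimilarityPair (⇑Q) g₀ (1 : F ≃+* F))
    (hx2 : PhiS g₀ 1 hg₀ * PhiS g₀ 1 hg₀ = 1)
    (E : Set (OG Q)) (hEΩ : ∀ ρ ∈ E, ρ ∈ Cfsg.Omega F (⇑Q)) (hEr : ∀ ρ ∈ E, ρ ^ r = 1)
    (hEg : ∀ ρ ∈ E, g₀ * (ρ : GL ι F) = (ρ : GL ι F) * g₀)
    (hA : ∀ H : Subgroup (OG Q), Odd (Nat.card H) → (∀ h ∈ H, h ∈ Cfsg.Omega F (⇑Q)) →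
      (∀ h ∈ H, g₀ * (h : GL ι F) = (h : GL ι F) * g₀) →
      (∀ ρ ∈ E, ∀ h ∈ H, ρ * h * ρ⁻¹ ∈ H) → ∀ h ∈ H, h = 1)
    (hB : ∀ (h : GL ι F) (τ : F ≃+* F) (hp : Cfsg.IsSemisimilarityPair (⇑Q) h τ),
      PhiS h τ hp * PhiS g₀ 1 hg₀ = PhiS g₀ 1 hg₀ * PhiS h τ hp →
      (∀ ρ ∈ E, conjS h τ hp ρ = ρ) → PhiS h τ hp = 1 ∨ PhiS h τ hp = PhiS g₀ 1 hg₀)
    (A : Subgroup (MulAut (Cfsg.POmega F (⇑Q))))
    (hinn : ∀ k : Cfsg.POmega F (⇑Q), MulAut.conj k ∈ A)
    (N : Subgroup (MulAut (Cfsg.POmega F (⇑Q)))) (hN : HasCore 2 A (PhiS g₀ 1 hg₀) N) :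
    False := by
  classical
  haveI := finite_omega (Q := Q)
  haveI := finite_POmega (Q := Q)
  obtain ⟨hnb, hle, hnorm, hcop⟩ := hN
  have hc := conj_injective_POmega hQ hn
  obtain ⟨x, hx⟩ : ∃ x, x = PhiS g₀ 1 hg₀ := ⟨_, rfl⟩
  rw [← hx] at hle hnorm hx2 hB
  set Kx := MonoidHom.eqLocus x.toMonoidHom (MonoidHom.id (Cfsg.POmega F (⇑Q))) with hKx
  have hmemK : ∀ k : Cfsg.POmega F (⇑Q), k ∈ Kx ↔ x k = k := fun k => Iff.rfl
  have hconjH : ∀ k ∈ Kx, MulAut.conj k ∈ A ⊓ Subgroup.centralizer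
      ({x} : Set (MulAut (Cfsg.POmega F (⇑Q)))) :=
    fun k hk => ⟨hinn k, (conj_mem_centralizer_iff hc _ k).2 hk⟩
  have hNodd : Odd (Nat.card ↥N) := Nat.coprime_two_right.1 hcop
  set D : Subgroup (Cfsg.POmega F (⇑Q)) :=
    N.comap (MulAut.conj : Cfsg.POmega F (⇑Q) →* _) ⊓ Kx with hD
  have hDnorm : ∀ k ∈ Kx, ∀ y ∈ D, k * y * k⁻¹ ∈ D := by
    rintro k hk y ⟨hy1, hy2⟩
    refine ⟨?_, Kx.mul_mem (Kx.mul_mem hk hy2) (Kx.inv_mem hk)⟩
    show MulAut.conj (k * y * k⁻¹) ∈ N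
    rw [map_mul, map_mul, map_inv]
    exact hnorm _ (hconjH k hk) _ hy1
  have hDodd : Odd (Nat.card ↥D) := by
    have hmap : D.map (MulAut.conj : Cfsg.POmega F (⇑Q) →* _) ≤ N := by
      rintro _ ⟨y, hy, rfl⟩
      exact hy.1
    have h4 := Subgroup.card_dvd_of_le hmap
    rw [Nat.card_congr (Subgroup.equivMapOfInjective _ _ hc).symm.toEquiv] at h4
    exact Odd.of_dvd_nat hNodd h4
  -- the quotient map
  set π := QuotientGroup.mk' (Subgroup.center ↥(Cfsg.Omega F (⇑Q))) with hπ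
  have hπmk : ∀ s : ↥(Cfsg.Omega F (⇑Q)), π s = QuotientGroup.mk s := fun s => rfl
  have hkerπ : π.ker = Subgroup.center ↥(Cfsg.Omega F (⇑Q)) := QuotientGroup.ker_mk' _
  -- elements of `E` give fixed points
  have hEfix : ∀ ρ (hρ : ρ ∈ E), π ⟨ρ, hEΩ ρ hρ⟩ ∈ Kx := by
    intro ρ hρ
    rw [hmemK, hx, hπmk, PhiS_mk]
    congr 1
    apply Subtype.ext
    apply Subtype.ext
    rw [PhiS_mk_coe, mapGL_one]
    show g₀ * (ρ : GL ι F) * g₀⁻¹ = (ρ : GL ι F)
    rw [hEg ρ hρ, mul_inv_cancel_right]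
  -- step I: `D` is trivial
  have hDbot : D = ⊥ := by
    obtain ⟨H₀, hcard₀, hmap₀, hmem₀⟩ := exists_odd_lift π
      (by rw [hkerπ]) (fun z hz => center_Omega_mul_self hQ hn (by rw [← hkerπ]; exact hz))
      D (by
        intro d _
        exact QuotientGroup.mk'_surjective _ d) hDodd
    have hcopn := coprime_center_Omega_odd (Q := Q) hQ hn hDodd
    have hρ' : CQ π := cq_mk'
    have hH₀ : ∀ s ∈ H₀, s = 1 := by
      have hall := hA (H₀.map (Cfsg.Omega F (⇑Q)).subtype)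
        (by
          rw [Subgroup.card_map_of_injective (Subgroup.subtype_injective _), hcard₀]
          exact hDodd)
        (by
          rintro _ ⟨s, -, rfl⟩
          exact s.2)
        (by
          rintro _ ⟨s, hs, rfl⟩
          obtain ⟨hs1, hs2⟩ := (hmem₀ s).1 hs
          have hfix : x (π s) = π s := (hmemK _).1 hs1.2
          rw [hx, hπmk, PhiS_mk] at hfix
          have hsp' : (resChar (commutator ↥(Cfsg.isometryGroup F ⇑Q))
              (conjS g₀ 1 hg₀) s) ^ Nat.card ↥D = 1 := by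
            rw [← map_pow, hs2, map_one]
          have h3 := eq_of_pow_nat (Nat.card ↥D) hcopn hρ' hsp' hs2 hfix
          have h4 := congrArg (fun t : ↥(Cfsg.Omega F (⇑Q)) =>
            ((t : ↥(Cfsg.isometryGroup F ⇑Q)) : GL ι F)) h3
          simp only [PhiS_mk_coe, mapGL_one] at h4
          show g₀ * ((s : OG Q) : GL ι F) = ((s : OG Q) : GL ι F) * g₀
          calc g₀ * ((s : OG Q) : GL ι F)
              = (g₀ * ((s : OG Q) : GL ι F) * g₀⁻¹) * g₀ := by group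
            _ = ((s : OG Q) : GL ι F) * g₀ := by rw [h4])
        (by
          rintro ρ hρ _ ⟨s, hs, rfl⟩
          obtain ⟨hs1, hs2⟩ := (hmem₀ s).1 hs
          refine ⟨(⟨ρ, hEΩ ρ hρ⟩ : ↥(Cfsg.Omega F (⇑Q))) * s * (⟨ρ, hEΩ ρ hρ⟩)⁻¹, ?_, rfl⟩
          refine (hmem₀ _).2 ⟨?_, ?_⟩
          · rw [map_mul, map_mul, map_inv]
            exact hDnorm _ (hEfix ρ hρ) _ hs1
          · rw [conj_pow, hs2, mul_one, mul_inv_cancel])
      intro s hs
      have := hall _ ⟨s, hs, rfl⟩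
      apply Subtype.ext
      exact this
    rw [← hmap₀, eq_bot_iff]
    rintro _ ⟨s, hs, rfl⟩
    rw [hH₀ s hs, map_one]
    exact Subgroup.one_mem _
  -- step II: `N` fixes the fixed points
  have hNfix : ∀ n ∈ N, ∀ k ∈ Kx, n k = k := by
    intro n hn' k hk
    have hnC : x * n = n * x := by
      have h0 : n ∈ Subgroup.centralizer ({x} : Set (MulAut (Cfsg.POmega F (⇑Q)))) :=
        (hle hn').2
      rw [Subgroup.mem_centralizer_iff] at h0
      exact h0 _ rfl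
    have hnk : n k ∈ Kx := by
      rw [hmemK]
      have h1 := congrArg (fun θ : MulAut (Cfsg.POmega F (⇑Q)) => θ k) hnC
      simp only [MulAut.mul_apply] at h1
      rw [(hmemK k).1 hk] at h1
      exact h1
    have h1 : n k * k⁻¹ ∈ D := by
      refine ⟨?_, Kx.mul_mem hnk (Kx.inv_mem hk)⟩
      show MulAut.conj (n k * k⁻¹) ∈ N
      have e : MulAut.conj (n k * k⁻¹) = n * (MulAut.conj k * n⁻¹ * (MulAut.conj k)⁻¹) := by
        rw [map_mul, map_inv, ← mul_assoc, ← mul_assoc, mul_conj_eq]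
        group
      rw [e]
      exact N.mul_mem hn' (hnorm _ (hconjH k hk) _ (N.inv_mem hn'))
    rw [hDbot, Subgroup.mem_bot] at h1
    exact mul_inv_eq_one.1 h1
  -- step III: every element of `N` is trivial
  apply hnb
  rw [eq_bot_iff]
  intro n hn'
  rw [Subgroup.mem_bot]
  have hnC : n * x = x * n := by
    have h0 : n ∈ Subgroup.centralizer ({x} : Set (MulAut (Cfsg.POmega F (⇑Q)))) :=
      (hle hn').2
    rw [Subgroup.mem_centralizer_iff] at h0
    exact (h0 _ rfl).symm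
  obtain ⟨τ, h, hp, hnp⟩ := exists_pair r hQ hn hLag n
  have hfixE : ∀ ρ ∈ E, conjS h τ hp ρ = ρ := by
    intro ρ hρ
    have h1 := hNfix n hn' _ (hEfix ρ hρ)
    rw [hnp, hπmk] at h1
    have hsp : (⟨ρ, hEΩ ρ hρ⟩ : ↥(Cfsg.Omega F (⇑Q))) ^ r = 1 := by
      apply Subtype.ext
      rw [Subgroup.coe_pow]
      exact hEr ρ hρ
    exact conjS_of_fix r hQ hn hp ⟨ρ, hEΩ ρ hρ⟩ hsp h1
  rcases hB h τ hp (by rw [← hnp]; exact hnC) hfixE with h1 | h1
  · rw [hnp, h1]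
  · rw [← hnp] at h1
    -- `x` has odd order and squares to the identity
    have hxN : x ∈ N := by rw [← h1]; exact hn'
    have ho : orderOf (⟨x, hxN⟩ : ↥N) ∣ Nat.card ↥N := orderOf_dvd_natCard _
    have ho2 : orderOf (⟨x, hxN⟩ : ↥N) ∣ 2 := by
      apply orderOf_dvd_of_pow_eq_one
      apply Subtype.ext
      rw [Subgroup.coe_pow, Subgroup.coe_one, pow_two]
      exact hx2
    have ho1 : orderOf (⟨x, hxN⟩ : ↥N) = 1 := by
      have hodd' : Odd (orderOf (⟨x, hxN⟩ : ↥N)) := Odd.of_dvd_nat hNodd ho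
      rcases (Nat.dvd_prime Nat.prime_two).1 ho2 with h | h
      · exact h
      · rw [h] at hodd'
        exact absurd hodd' (by decide)
    have := orderOf_eq_one_iff.1 ho1
    have h2 := congrArg Subtype.val this
    rw [Subgroup.coe_one] at h2
    rw [h1]
    exact h2

end Gen

end Cfsg.Agent.Lib.Helper5.GInv
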