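import Mathlib
import Cfsg.Agent.Lib.Helper5.GInv.Gen
import Cfsg.Agent.Lib.Helper5.GInv.Class1A
import Cfsg.Agent.Lib.Helper5.GInv.Class1B
import Cfsg.Agent.Lib.Helper5.OFld55

set_option autoImplicit false

/-! Class 1: involutory isometries whose eigenspaces are both odd dimensional. -/

namespace Cfsg.Agent.Lib.Helper5.GInv

open Matrix QuadraticMap
open Cfsg.Agent.Lib.Helper5.PGO Cfsg.Agent.Lib.Helper5.OAut Cfsg.Agent.Lib.Helper5.OFld
open Cfsg.Agent.Lib.Helper5.PSpBal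
open Cfsg.Agent.Lib.Helper2 Cfsg.Agent.Lib.Helper2.LongRoot

section Conc
variable {F : Type*} [Field F] [Fintype F] {ι : Type} [Fintype ι] [DecidableEq ι]
variable {Q : QuadraticForm F (ι → F)}

theorem semi_one_eq (h : GL ι F) (v : ι → F) :
    semi h (1 : F ≃+* F) v = (h : Matrix ι ι F) *ᵥ v := rfl

theorem gl_eq_of_mulVec {g h : GL ι F}
    (H : ∀ v : ι → F, (g : Matrix ι ι F) *ᵥ v = (h : Matrix ι ι F) *ᵥ v) : g = h := by
  apply Units.ext
  apply Matrix.mulVec_injective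
  funext v
  exact H v

/-- a pair with scalar matrix and trivial field automorphism induces the identity -/
theorem PhiS_scal (c : Fˣ) (hp : Cfsg.IsSemisimilarityPair (⇑Q) (scalHom c : GL ι F) 1) :
    PhiS (scalHom c : GL ι F) 1 hp = 1 :=
  (PhiS_one_eq (scalGO Q c) hp).trans (scal_le_ker ⟨c, rfl⟩)

set_option maxHeartbeats 1600000 in
theorem no_core_class1 (r : ℕ) [Fact r.Prime] [CharP F r] (h2 : (2 : F) ≠ 0)
    (hQ : (polarBilin Q).Nondegenerate) (hn : 7 ≤ Fintype.card ι)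
    (hLag : ∀ T : Submodule F (ι → F), (∀ x ∈ T, Q x = 0) →
      (∀ y, (∀ x ∈ T, QuadraticMap.polar (⇑Q) x y = 0) → y ∈ T) → 5 ≤ Module.finrank F ↥T)
    (G : OG Q) (hGG : G * G = 1)
    (hG : Cfsg.IsSemisimilarityPair (⇑Q) (G : GL ι F) (1 : F ≃+* F))
    (hd₁ : Odd (Module.finrank F ↥(Vp ((G : GL ι F) : Matrix ι ι F))))
    (hd₂ : Odd (Module.finrank F ↥(Vm ((G : GL ι F) : Matrix ι ι F))))
    (A : Subgroup (MulAut (Cfsg.POmega F (⇑Q))))
    (hinn : ∀ k : Cfsg.POmega F (⇑Q), MulAut.conj k ∈ A)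
    (N : Subgroup (MulAut (Cfsg.POmega F (⇑Q))))
    (hN : HasCore 2 A (PhiS (G : GL ι F) 1 hG) N) : False := by
  classical
  obtain ⟨M, hM⟩ : ∃ M : Matrix ι ι F, M = ((G : GL ι F) : Matrix ι ι F) := ⟨_, rfl⟩
  rw [← hM] at hd₁ hd₂
  have hMM : M * M = 1 := by
    have := congrArg (fun g : OG Q => ((g : GL ι F) : Matrix ι ι F)) hGG
    simp only [Subgroup.coe_mul, Units.val_mul, Subgroup.coe_one, Units.val_one] at this
    rw [hM]
    exact this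
  have hGM : ∀ x, G • x = M *ᵥ x := fun x => by rw [hM]; rfl
  obtain ⟨U₁, hU₁⟩ : ∃ U, U = Vp M := ⟨_, rfl⟩
  obtain ⟨U₂, hU₂⟩ : ∃ U, U = Vm M := ⟨_, rfl⟩
  rw [← hU₁] at hd₁
  rw [← hU₂] at hd₂
  have hm₁ : ∀ x, x ∈ U₁ ↔ G • x = x := fun x => by rw [hU₁, mem_Vp, hGM]
  have hm₂ : ∀ x, x ∈ U₂ ↔ G • x = -x := fun x => by rw [hU₂, mem_Vm, hGM]
  have hc : IsCompl U₁ U₂ := by rw [hU₁, hU₂]; exact isCompl_Vp_Vm h2 M hMM
  have hsum : Module.finrank F ↥U₁ + Module.finrank F ↥U₂ = Fintype.card ι := by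
    rw [hU₁, hU₂]; exact finrank_Vp_add_Vm h2 M hMM
  have hperp : ∀ u ∈ U₁, ∀ w ∈ U₂, polar Q u w = 0 := by
    intro u hu w hw
    have h1 := polar_smul_smul G u w
    rw [(hm₁ u).1 hu, (hm₂ w).1 hw, polar_neg_right] at h1
    have h3 : (2 : F) * polar (⇑Q) u w = 0 := by linear_combination -h1
    rcases mul_eq_zero.1 h3 with h | h
    · exact absurd h h2
    · exact h
  -- the unipotent elements
  set E : Set (OG Q) := {ρ | ∃ e u : ι → F, (e ∈ U₁ ∧ u ∈ U₁ ∨ e ∈ U₂ ∧ u ∈ U₂) ∧ e ≠ 0 ∧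
    Q e = 0 ∧ polar Q e u = 0 ∧ ρ = Es hQ e u} with hE
  have hEcomm : ∀ e u : ι → F, (e ∈ U₁ ∧ u ∈ U₁ ∨ e ∈ U₂ ∧ u ∈ U₂) → Q e = 0 →
      polar Q e u = 0 → G * Es hQ e u = Es hQ e u * G := by
    intro e u hmem he heu
    rcases hmem with ⟨h1, h3⟩ | ⟨h1, h3⟩
    · exact comm_Es_of_eigen hQ G he heu 1 (one_mul 1)
        (by rw [one_smul]; exact (hm₁ e).1 h1) (by rw [one_smul]; exact (hm₁ u).1 h3)
    · exact comm_Es_of_eigen hQ G he heu (-1) (by ring)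
        (by rw [neg_one_smul]; exact (hm₂ e).1 h1) (by rw [neg_one_smul]; exact (hm₂ u).1 h3)
  have hx2 : PhiS (G : GL ι F) 1 hG * PhiS (G : GL ι F) 1 hG = 1 := by
    rw [PhiS_mul, PhiS_congr (g' := 1) (σ' := 1) (by
      rw [mapGL_one]
      have := congrArg (fun g : OG Q => (g : GL ι F)) hGG
      exact this) (one_mul 1) _ pair_one]
    exact PhiS_one _
  refine no_core_gen r hQ hn hLag (G : GL ι F) hG hx2 E ?_ ?_ ?_ ?_ ?_ A hinn N hN
  · rintro _ ⟨e, u, -, he0, he, heu, rfl⟩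
    exact Es_mem_Omega hQ hn he0 he heu
  · rintro _ ⟨e, u, -, he0, he, heu, rfl⟩
    exact Qs_pow_char hQ r he0 he (Es_mem_Qs hQ he heu)
  · rintro _ ⟨e, u, hmem, -, he, heu, rfl⟩
    have := congrArg (fun g : OG Q => (g : GL ι F)) (hEcomm e u hmem he heu)
    exact this
  · -- part (a)
    intro H hodd _ hHG hnorm
    haveI : Finite (OG Q) := by
      haveI : Finite (GL ι F) := Finite.of_injective (fun g : GL ι F => (g : Matrix ι ι F))
        (fun a b hab => Units.ext hab)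
      infer_instance
    have hcomm : ∀ h ∈ H, ∀ x : ι → F, G • (h • x) = h • (G • x) := by
      intro h hh x
      have h1 : G * h = h * G := Subtype.ext (hHG h hh)
      rw [← mul_smul, h1, mul_smul]
    refine trivial_of_split h2 hQ U₁ U₂ hc hperp hd₁ hd₂ H hodd ?_ ?_ ?_
    · intro h hh x hx
      rw [hm₁] at hx ⊢
      rw [hcomm h hh, hx]
    · intro h hh x hx
      rw [hm₂] at hx ⊢
      rw [hcomm h hh, hx, smul_neg]
    · intro e u hmem he0 he heu h hh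
      exact hnorm _ ⟨e, u, hmem, he0, he, heu, rfl⟩ h hh
  · -- part (b)
    intro h τ hp _ hfix
    obtain ⟨κ, hf⟩ := qsemi_of_pair hp
    have hcomm : ∀ e u : ι → F, (e ∈ U₁ ∧ u ∈ U₁ ∨ e ∈ U₂ ∧ u ∈ U₂) → Q e = 0 →
        polar Q e u = 0 → ∀ x, semi h τ (Es hQ e u • x) = Es hQ e u • semi h τ x := by
      intro e u hmem he heu x
      by_cases he0 : e = 0
      · rw [he0, Es_zero_left, one_smul, one_smul]
      · exact semi_comm_of_conjS hp (hfix _ ⟨e, u, hmem, he0, he, heu, rfl⟩) x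
    have hcomm' : ∀ e u : ι → F, (e ∈ U₂ ∧ u ∈ U₂ ∨ e ∈ U₁ ∧ u ∈ U₁) → Q e = 0 →
        polar Q e u = 0 → ∀ x, semi h τ (Es hQ e u • x) = Es hQ e u • semi h τ x :=
      fun e u hmem => hcomm e u hmem.symm
    have hperp' : ∀ u ∈ U₂, ∀ w ∈ U₁, polar Q u w = 0 :=
      fun u hu w hw => by rw [polar_comm]; exact hperp w hw u hu
    -- both summands carry scalars
    have hmain : (∀ t, τ t = t) ∧ ∃ c₁ c₂ : F, c₁ ≠ 0 ∧ (∀ x ∈ U₁, semi h τ x = c₁ • x) ∧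
        (∀ x ∈ U₂, semi h τ x = c₂ • x) ∧ c₂ * c₂ = c₁ * c₁ := by
      by_cases hbig : 3 ≤ Module.finrank F ↥U₁
      · exact scalar_pair h2 hQ U₁ U₂ hc hperp hbig hd₂ hf hcomm
      · have hbig' : 3 ≤ Module.finrank F ↥U₂ := by omega
        obtain ⟨hτ, c, c', hc0, h1, h3, h4⟩ :=
          scalar_pair h2 hQ U₂ U₁ hc.symm hperp' hbig' hd₁ hf hcomm'
        have hc'0 : c' ≠ 0 := by
          rintro rfl
          rw [mul_zero] at h4
          exact hc0 (mul_self_eq_zero.1 h4.symm)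
        exact ⟨hτ, c', c, hc'0, h3, h1, h4.symm⟩
    obtain ⟨hτ, c₁, c₂, hc0, h1, h3, h4⟩ := hmain
    have hτ1 : τ = 1 := RingEquiv.ext hτ
    subst hτ1
    have hdec : ∀ x : ι → F, ∃ x₁ ∈ U₁, ∃ x₂ ∈ U₂, x = x₁ + x₂ := by
      intro x
      have hx : x ∈ U₁ ⊔ U₂ := by rw [hc.sup_eq_top]; trivial
      obtain ⟨x₁, hx₁, x₂, hx₂, rfl⟩ := Submodule.mem_sup.1 hx
      exact ⟨x₁, hx₁, x₂, hx₂, rfl⟩
    have hcases : (c₂ - c₁) * (c₂ + c₁) = 0 := by linear_combination h4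
    rcases mul_eq_zero.1 hcases with hc | hc
    · left
      have hc21 : c₂ = c₁ := sub_eq_zero.1 hc
      have hh : h = scalHom (Units.mk0 c₁ hc0) := by
        apply gl_eq_of_mulVec
        intro v
        obtain ⟨x₁, hx₁, x₂, hx₂, rfl⟩ := hdec v
        rw [scalHom_mulVec, Units.val_mk0, ← semi_one_eq, semi_add, h1 x₁ hx₁, h3 x₂ hx₂, hc21,
          smul_add]
      subst hh
      exact PhiS_scal _ hp
    · right
      have hc21 : c₂ = -c₁ := eq_neg_of_add_eq_zero_left hc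
      rw [PhiS_eq_iff hQ hn hp hG]
      refine ⟨Units.mk0 c₁ hc0, ?_⟩
      apply gl_eq_of_mulVec
      intro v
      obtain ⟨x₁, hx₁, x₂, hx₂, rfl⟩ := hdec v
      rw [Units.val_mul, ← Matrix.mulVec_mulVec, scalHom_mulVec, Units.val_mk0, ← semi_one_eq,
        semi_add, h1 x₁ hx₁, h3 x₂ hx₂, hc21]
      have e1 : ((G : GL ι F) : Matrix ι ι F) *ᵥ (x₁ + x₂) = G • (x₁ + x₂) := rfl
      rw [e1, smul_add, (hm₁ x₁).1 hx₁, (hm₂ x₂).1 hx₂, smul_add, smul_neg, neg_smul]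

end Conc

end Cfsg.Agent.Lib.Helper5.GInv
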