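import Mathlib
import Cfsg.Agent.Lib.Helper5.GInv.Split

set_option autoImplicit false

/-! A quadratic space over `F` with a self-adjoint similarity `g`, `g² = μ` a nonsquare, as a
quadratic space over `K = F(√μ)`. -/

namespace Cfsg.Agent.Lib.Helper5.GInv

open Module QuadraticMap

section KStr
variable {F : Type*} [Field F] {μ : F}
variable {W : Type*} [AddCommGroup W] [Module F W] [Module (QuadraticAlgebra F μ 0) W]
  [IsScalarTower F (QuadraticAlgebra F μ 0) W]

local notation "K" => QuadraticAlgebra F μ 0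
local notation "ω" => (⟨0, 1⟩ : QuadraticAlgebra F μ 0)

theorem smul_mk' (a b : F) (x : W) : (⟨a, b⟩ : K) • x = a • x + b • (ω • x) := by
  have h : (⟨a, b⟩ : K) = a • (1 : K) + b • ω := by
    ext <;> simp [QuadraticAlgebra.re_one, QuadraticAlgebra.im_one]
  rw [h, add_smul, smul_assoc, smul_assoc, one_smul]

theorem omega_sq (x : W) : ω • ω • x = μ • x := by
  rw [← mul_smul, QuadraticAlgebra.mk_mul_mk]
  simp only [mul_zero, mul_one, zero_add, zero_mul, add_zero]
  rw [smul_mk', zero_smul, add_zero]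

omit [AddCommGroup W] [Module F W] [Module (QuadraticAlgebra F μ 0) W]
  [IsScalarTower F (QuadraticAlgebra F μ 0) W] in
theorem mu_ne_zero [hμ : Fact (∀ r : F, r ^ 2 ≠ μ + 0 * r)] : μ ≠ 0 := by
  intro h
  have := hμ.out 0
  rw [h] at this
  simp at this

section Form
variable (Q : QuadraticForm F W)

theorem polar_omega_omega (hsim : ∀ x : W, Q (ω • x) = μ * Q x) (x y : W) :
    polar Q (ω • x) (ω • y) = μ * polar Q x y := by
  unfold polar
  rw [← smul_add, hsim, hsim, hsim]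
  ring

theorem polar_omega_left [hμ : Fact (∀ r : F, r ^ 2 ≠ μ + 0 * r)]
    (hsim : ∀ x : W, Q (ω • x) = μ * Q x) (x y : W) :
    polar Q (ω • x) y = polar Q x (ω • y) := by
  have h1 := polar_omega_omega Q hsim x (ω • y)
  rw [omega_sq, polar_smul_right, smul_eq_mul] at h1
  exact mul_left_cancel₀ (mu_ne_zero (μ := μ)) h1

variable (μ) in
/-- the underlying function of the `K`-bilinear form -/
def bkFun (x y : W) : K := ⟨polar Q x y, μ⁻¹ * polar Q (ω • x) y⟩

variable (μ) in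
theorem bkFun_re (x y : W) : (bkFun μ Q x y).re = polar Q x y := rfl

variable (μ) in
theorem bkFun_im (x y : W) : (bkFun μ Q x y).im = μ⁻¹ * polar Q (ω • x) y := rfl

theorem bkFun_comm [hμ : Fact (∀ r : F, r ^ 2 ≠ μ + 0 * r)]
    (hsim : ∀ x : W, Q (ω • x) = μ * Q x) (x y : W) :
    bkFun μ Q x y = bkFun μ Q y x := by
  ext
  · rw [bkFun_re, bkFun_re, polar_comm]
  · rw [bkFun_im, bkFun_im, polar_omega_left Q hsim, polar_comm]

variable (μ) in
theorem bkFun_add_left (x x' y : W) :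
    bkFun μ Q (x + x') y = bkFun μ Q x y + bkFun μ Q x' y := by
  ext
  · rw [QuadraticAlgebra.re_add, bkFun_re, bkFun_re, bkFun_re, polar_add_left]
  · rw [QuadraticAlgebra.im_add, bkFun_im, bkFun_im, bkFun_im, smul_add, polar_add_left, mul_add]

theorem bkFun_smul_left [hμ : Fact (∀ r : F, r ^ 2 ≠ μ + 0 * r)]
    (c : K) (x y : W) :
    bkFun μ Q (c • x) y = c • bkFun μ Q x y := by
  obtain ⟨a, b⟩ := c
  have hμ0 : μ ≠ 0 := mu_ne_zero (μ := μ)
  rw [smul_mk', smul_eq_mul]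
  have e1 : ω • (a • x + b • ω • x) = a • ω • x + (b * μ) • x := by
    rw [smul_add, smul_comm ω a x, smul_comm ω b (ω • x), omega_sq, smul_smul]
  ext
  · rw [bkFun_re, QuadraticAlgebra.re_mul, bkFun_re, bkFun_im, polar_add_left, polar_smul_left,
      polar_smul_left, smul_eq_mul, smul_eq_mul]
    field_simp
  · rw [bkFun_im, QuadraticAlgebra.im_mul, bkFun_re, bkFun_im, e1, polar_add_left,
      polar_smul_left, polar_smul_left, smul_eq_mul, smul_eq_mul]
    field_simp
    ring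

/-- the `K`-bilinear form -/
def BK [hμ : Fact (∀ r : F, r ^ 2 ≠ μ + 0 * r)] (hsim : ∀ x : W, Q (ω • x) = μ * Q x) :
    W →ₗ[K] W →ₗ[K] K :=
  LinearMap.mk₂ K (bkFun μ Q) (bkFun_add_left μ Q) (bkFun_smul_left Q)
    (fun x y y' => by
      rw [bkFun_comm Q hsim x (y + y'), bkFun_add_left, bkFun_comm Q hsim y x,
        bkFun_comm Q hsim y' x])
    (fun c x y => by
      rw [bkFun_comm Q hsim x (c • y), bkFun_smul_left Q, bkFun_comm Q hsim y x])

theorem BK_apply [hμ : Fact (∀ r : F, r ^ 2 ≠ μ + 0 * r)]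
    (hsim : ∀ x : W, Q (ω • x) = μ * Q x) (x y : W) :
    BK Q hsim x y = bkFun μ Q x y := rfl

/-- the `K`-quadratic form (twice the usual normalization) -/
def QK [hμ : Fact (∀ r : F, r ^ 2 ≠ μ + 0 * r)] (hsim : ∀ x : W, Q (ω • x) = μ * Q x) :
    QuadraticForm K W :=
  LinearMap.BilinMap.toQuadraticMap (BK Q hsim)

theorem QK_apply [hμ : Fact (∀ r : F, r ^ 2 ≠ μ + 0 * r)]
    (hsim : ∀ x : W, Q (ω • x) = μ * Q x) (x : W) :
    QK Q hsim x = bkFun μ Q x x := rfl

theorem QK_re [hμ : Fact (∀ r : F, r ^ 2 ≠ μ + 0 * r)]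
    (hsim : ∀ x : W, Q (ω • x) = μ * Q x) (x : W) :
    (QK Q hsim x).re = 2 * Q x := by
  rw [QK_apply, bkFun_re, QuadraticMap.polar_self]
  simp

theorem polar_QK [hμ : Fact (∀ r : F, r ^ 2 ≠ μ + 0 * r)]
    (hsim : ∀ x : W, Q (ω • x) = μ * Q x) (x y : W) :
    polar (QK Q hsim) x y = bkFun μ Q x y + bkFun μ Q x y := by
  have h := LinearMap.BilinMap.polar_toQuadraticMap (B := BK Q hsim) x y
  rw [BK_apply, BK_apply, bkFun_comm Q hsim y x] at h
  exact h

theorem polar_QK_re [hμ : Fact (∀ r : F, r ^ 2 ≠ μ + 0 * r)]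
    (hsim : ∀ x : W, Q (ω • x) = μ * Q x) (x y : W) :
    (polar (QK Q hsim) x y).re = 2 * polar Q x y := by
  rw [polar_QK, QuadraticAlgebra.re_add, bkFun_re, two_mul]

theorem QK_nondeg [hμ : Fact (∀ r : F, r ^ 2 ≠ μ + 0 * r)]
    (hsim : ∀ x : W, Q (ω • x) = μ * Q x) (h2 : (2 : F) ≠ 0)
    (hQ : (polarBilin Q).Nondegenerate) : (polarBilin (QK Q hsim)).Nondegenerate := by
  apply nondeg_of_sep
  intro x hx
  apply hQ.1
  intro y
  have h := congrArg QuadraticAlgebra.re (hx y)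
  rw [polar_QK_re, QuadraticAlgebra.re_zero] at h
  rcases mul_eq_zero.1 h with h | h
  · exact absurd h h2
  · exact h

end Form

end KStr

end Cfsg.Agent.Lib.Helper5.GInv
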