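import Mathlib
import Cfsg.Agent.Lib.Helper5.GInv.KStr

set_option autoImplicit false

/-! More on the `K`-structure: dimension, finiteness and scalars which are similarities. -/

namespace Cfsg.Agent.Lib.Helper5.GInv

open Module QuadraticMap

section KStr2
variable {F : Type*} [Field F] {μ : F}
variable {W : Type*} [AddCommGroup W] [Module F W] [Module (QuadraticAlgebra F μ 0) W]
  [IsScalarTower F (QuadraticAlgebra F μ 0) W]

local notation "K" => QuadraticAlgebra F μ 0
local notation "ω" => (⟨0, 1⟩ : QuadraticAlgebra F μ 0)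

omit [AddCommGroup W] [Module F W] [Module (QuadraticAlgebra F μ 0) W]
  [IsScalarTower F (QuadraticAlgebra F μ 0) W] in
theorem finite_K [Finite F] : Finite K :=
  Finite.of_equiv _ (QuadraticAlgebra.equivProd μ 0).symm

theorem finiteDimensional_K [hμ : Fact (∀ r : F, r ^ 2 ≠ μ + 0 * r)] [FiniteDimensional F W] :
    FiniteDimensional K W :=
  Module.Finite.of_restrictScalars_finite F K W

theorem finrank_K [hμ : Fact (∀ r : F, r ^ 2 ≠ μ + 0 * r)] [FiniteDimensional F W] {n : ℕ}
    (h : finrank F W = 2 * n) : finrank K W = n := by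
  haveI := finiteDimensional_K (μ := μ) (W := W)
  have h1 := Module.finrank_mul_finrank F K W
  rw [QuadraticAlgebra.finrank_eq_two, h] at h1
  omega

/-- a scalar of `K` which is a similarity of `Q` lies in `F` or in `F ω` -/
theorem ab_zero [hμ : Fact (∀ r : F, r ^ 2 ≠ μ + 0 * r)] (Q : QuadraticForm F W)
    (hsim : ∀ x : W, Q (ω • x) = μ * Q x) (h2 : (2 : F) ≠ 0)
    (hQ : (polarBilin Q).Nondegenerate) (hW : ∃ y : W, y ≠ 0) (a b ν : F)
    (h : ∀ x : W, Q (a • x + b • ω • x) = ν * Q x) : a = 0 ∨ b = 0 := by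
  by_contra hcon
  push Not at hcon
  obtain ⟨ha, hb⟩ := hcon
  obtain ⟨c, hc⟩ : ∃ c : F, c = (ν - a ^ 2 - μ * b ^ 2) / (a * b) := ⟨_, rfl⟩
  have hP : ∀ x : W, polar Q x (ω • x) = c * Q x := by
    intro x
    have h1 := h x
    rw [QuadraticMap.map_add (⇑Q), QuadraticMap.map_smul, QuadraticMap.map_smul, hsim,
      polar_smul_left, polar_smul_right, smul_eq_mul, smul_eq_mul, smul_eq_mul, smul_eq_mul]
      at h1
    rw [hc]
    field_simp
    linear_combination h1
  have hP2 : ∀ x y : W, 2 * polar Q x (ω • y) = c * polar Q x y := by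
    intro x y
    have h1 := hP (x + y)
    rw [smul_add, polar_add_left, polar_add_right, polar_add_right, hP x, hP y,
      QuadraticMap.map_add (⇑Q), polar_comm Q y (ω • x), polar_omega_left Q hsim x y] at h1
    linear_combination h1
  obtain ⟨y, hy⟩ := hW
  have h3 : (2 : F) • ω • y - c • y = 0 := by
    apply hQ.1
    intro x
    show polar Q ((2 : F) • ω • y - c • y) x = 0
    rw [polar_comm, polar_sub_right, polar_smul_right, polar_smul_right, smul_eq_mul,
      smul_eq_mul, hP2, sub_self]
  have h4 : (⟨-c, 2⟩ : K) • y = 0 := by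
    rw [smul_mk', neg_smul, ← h3]
    abel
  rcases smul_eq_zero.1 h4 with h5 | h5
  · have := congrArg QuadraticAlgebra.im h5
    exact h2 this
  · exact hy h5

end KStr2

end Cfsg.Agent.Lib.Helper5.GInv
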