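import Mathlib
import Cfsg.Agent.Lib.Helper5.GInv.NC

set_option autoImplicit false

/-! A semilinear bijection commuting with all Eichler transformations is a scalar. -/

namespace Cfsg.Agent.Lib.Helper5.GInv

open Module QuadraticMap

section SLcomm
variable {k : Type*} [Field k] [Finite k] {W : Type*} [AddCommGroup W] [Module k W]
variable [FiniteDimensional k W] (Q : QuadraticForm k W)

set_option maxHeartbeats 800000 in
theorem sl_of_comm (h2 : (2 : k) ≠ 0) (hQ : (polarBilin Q).Nondegenerate)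
    (hd : 3 ≤ finrank k W) (τ : k → k) (hτ1 : τ 1 = 1) (hτ2 : τ 2 = 2) (f : W → W)
    (hadd : ∀ x y, f (x + y) = f x + f y)
    (hsmul : ∀ (c : k) (x : W), f (c • x) = τ c • f x) (hinj : ∀ x, f x = 0 → x = 0)
    (hcomm : ∀ e u : W, Q e = 0 → polar Q e u = 0 → ∀ x, f (eich Q e u x) = eich Q e u (f x)) :
    (∀ t, τ t = t) ∧ ∃ κ : k, ∀ x, f x = κ • x := by
  have hf0 : f 0 = 0 := by
    have := hadd 0 0
    rw [add_zero] at this
    exact left_eq_add.1 this
  have hneg : ∀ x, f (-x) = -f x := by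
    intro x
    have := hadd x (-x)
    rw [add_neg_cancel, hf0] at this
    exact (neg_eq_of_add_eq_zero_right this.symm).symm
  have hsub : ∀ x y, f (x - y) = f x - f y := by
    intro x y
    rw [sub_eq_add_neg, hadd, hneg, ← sub_eq_add_neg]
  refine sl_main Q h2 hQ hd τ hτ1 hτ2 f hadd hsmul hinj ?_
  intro e he0 he
  obtain ⟨p, hep, hp⟩ := exists_partner Q hQ he0 he
  obtain ⟨u, heu, -, hu⟩ := exists_nonsing_perp_pair Q hQ hd he hp hep
  have h3 := eich_sub_sq Q he heu p
  have h4 := eich_sub_sq Q he heu (f p)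
  rw [hep, mul_one] at h3
  have h5 := congrArg f h3
  rw [hsub, hsmul, hcomm e u he heu, hsub, hcomm e u he heu, h4] at h5
  have hc0 : -(2 * Q u) ≠ 0 := neg_ne_zero.2 (mul_ne_zero h2 hu)
  have h6 : τ (-(2 * Q u)) ≠ 0 := by
    intro h0
    have h7 : f ((-(2 * Q u)) • e) = 0 := by rw [hsmul, h0, zero_smul]
    rcases smul_eq_zero.1 (hinj _ h7) with h | h
    · exact hc0 h
    · exact he0 h
  refine ⟨(τ (-(2 * Q u)))⁻¹ * -(2 * Q u * polar Q e (f p)), ?_⟩
  rw [mul_smul, h5, smul_smul, inv_mul_cancel₀ h6, one_smul]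

end SLcomm

end Cfsg.Agent.Lib.Helper5.GInv
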