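import Mathlib
import Cfsg.Agent.Lib.Helper5.GInv.KStr2
import Cfsg.Agent.Lib.Helper5.GInv.SLcomm
import Cfsg.Agent.Lib.Helper5.GInv.Gen
import Cfsg.Agent.Lib.Helper5.OFld25

set_option autoImplicit false

/-! Class 2: conversions between isometries commuting with `g` and `K`-linear isometries; the
unipotent elements. -/

namespace Cfsg.Agent.Lib.Helper5.GInv

open Matrix QuadraticMap
open Cfsg.Agent.Lib.Helper5.PGO Cfsg.Agent.Lib.Helper5.OAut Cfsg.Agent.Lib.Helper5.OFld
open Cfsg.Agent.Lib.Helper2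

section Abs
variable {k : Type*} [Field k] {W : Type*} [AddCommGroup W] [Module k W]
variable (Q : QuadraticForm k W)

theorem eich_iter {e u : W} (he : Q e = 0) (heu : polar Q e u = 0) (n : ℕ) (x : W) :
    ((eich Q e u) ^ n) x = eich Q e (n • u) x := by
  induction n with
  | zero => rw [pow_zero, zero_smul, eich_zero]; rfl
  | succ n ih =>
    have h' : polar Q e (n • u) = 0 := by
      rw [← Nat.cast_smul_eq_nsmul k, polar_smul_right, heu, smul_zero]
    rw [pow_succ', Module.End.mul_apply, ih, eich_comp Q he h' heu, succ_nsmul]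

end Abs

section Conc
variable {F : Type*} [Field F] [Fintype F] {ι : Type} [Fintype ι] [DecidableEq ι]
variable {Q : QuadraticForm F (ι → F)} {μ : F}
variable [Module (QuadraticAlgebra F μ 0) (ι → F)]
  [IsScalarTower F (QuadraticAlgebra F μ 0) (ι → F)]

local notation "K" => QuadraticAlgebra F μ 0
local notation "ω" => (⟨0, 1⟩ : QuadraticAlgebra F μ 0)

/-- an isometry commuting with `ω` as a `K`-linear equivalence -/
def toK (h : OG Q) (hcomm : ∀ x : ι → F, h • (ω • x) = ω • (h • x)) :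
    (ι → F) ≃ₗ[K] (ι → F) where
  toFun x := h • x
  invFun x := h⁻¹ • x
  map_add' x y := smul_add h x y
  map_smul' c x := by
    obtain ⟨a, b⟩ := c
    show h • ((⟨a, b⟩ : K) • x) = (⟨a, b⟩ : K) • (h • x)
    rw [smul_mk' a b x, smul_mk' a b (h • x), smul_add, smul_comm h a, smul_comm h b, hcomm]
  left_inv x := inv_smul_smul h x
  right_inv x := smul_inv_smul h x

theorem toK_apply (h : OG Q) (hcomm : ∀ x : ι → F, h • (ω • x) = ω • (h • x)) (x : ι → F) :
    toK h hcomm x = h • x := rfl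

/-- a `K`-linear equivalence preserving `Q` as an isometry -/
noncomputable def ofK (hQ : (polarBilin Q).Nondegenerate) (φ : (ι → F) ≃ₗ[K] (ι → F))
    (hφ : ∀ x, Q (φ x) = Q x) : OG Q :=
  Siegel.mkIso hQ (LinearMap.toMatrix' (φ.toLinearMap.restrictScalars F))
    (fun x => by
      rw [LinearMap.toMatrix'_mulVec]
      exact hφ x)

theorem ofK_smul (hQ : (polarBilin Q).Nondegenerate) (φ : (ι → F) ≃ₗ[K] (ι → F))
    (hφ : ∀ x, Q (φ x) = Q x) (x : ι → F) : ofK hQ φ hφ • x = φ x := by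
  rw [smul_def]
  show (LinearMap.toMatrix' (φ.toLinearMap.restrictScalars F)) *ᵥ x = φ x
  rw [LinearMap.toMatrix'_mulVec]
  rfl

theorem ofK_inv_smul (hQ : (polarBilin Q).Nondegenerate) (φ : (ι → F) ≃ₗ[K] (ι → F))
    (hφ : ∀ x, Q (φ x) = Q x) (x : ι → F) : (ofK hQ φ hφ)⁻¹ • x = φ.symm x := by
  rw [inv_smul_eq_iff, ofK_smul, LinearEquiv.apply_symm_apply]

end Conc

end Cfsg.Agent.Lib.Helper5.GInv
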