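import Mathlib
import Cfsg.Agent.Lib.Helper5.GInv.Class2A
import Cfsg.Agent.Lib.Helper5.GInv.Class1

set_option autoImplicit false

/-! Class 2: the unipotent elements commuting with `g`. -/

namespace Cfsg.Agent.Lib.Helper5.GInv

open Matrix QuadraticMap
open Cfsg.Agent.Lib.Helper5.PGO Cfsg.Agent.Lib.Helper5.OAut Cfsg.Agent.Lib.Helper5.OFld
open Cfsg.Agent.Lib.Helper2

section Conc
variable {F : Type*} [Field F] [Fintype F] {ι : Type} [Fintype ι] [DecidableEq ι]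
variable {Q : QuadraticForm F (ι → F)} {μ : F}
variable [Module (QuadraticAlgebra F μ 0) (ι → F)]
  [IsScalarTower F (QuadraticAlgebra F μ 0) (ι → F)]
variable [hμ : Fact (∀ r : F, r ^ 2 ≠ μ + 0 * r)]

local notation "K" => QuadraticAlgebra F μ 0
local notation "ω" => (⟨0, 1⟩ : QuadraticAlgebra F μ 0)

omit [Fintype F] [DecidableEq ι] in
theorem Q_of_QK (h2 : (2 : F) ≠ 0) (hsim : ∀ x : ι → F, Q (ω • x) = μ * Q x)
    {x y : ι → F} (h : QK Q hsim x = QK Q hsim y) : Q x = Q y := by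
  have h1 := congrArg QuadraticAlgebra.re h
  rw [QK_re, QK_re] at h1
  exact mul_left_cancel₀ h2 h1

omit [Fintype F] [Fintype ι] [DecidableEq ι] [Module (QuadraticAlgebra F μ 0) (ι → F)]
  [IsScalarTower F (QuadraticAlgebra F μ 0) (ι → F)] in
theorem two_ne_zero_K (h2 : (2 : F) ≠ 0) : (2 : K) ≠ 0 := by
  intro h
  have := congrArg QuadraticAlgebra.re h
  rw [QuadraticAlgebra.re_ofNat, QuadraticAlgebra.re_zero] at this
  exact h2 this

/-- the unipotent elements: `K`-Eichler transformations -/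
def E2 (Q : QuadraticForm F (ι → F)) (hsim : ∀ x : ι → F, Q (ω • x) = μ * Q x) : Set (OG Q) :=
  {ρ | ∃ e u : ι → F, QK Q hsim e = 0 ∧ polar (QK Q hsim) e u = 0 ∧
    ∀ x : ι → F, ρ • x = eich (QK Q hsim) e u x}

/-- the isometry of a `K`-Eichler transformation -/
noncomputable def eichOG (h2 : (2 : F) ≠ 0) (hQ : (polarBilin Q).Nondegenerate)
    (hsim : ∀ x : ι → F, Q (ω • x) = μ * Q x) (e u : ι → F) (he : QK Q hsim e = 0)
    (heu : polar (QK Q hsim) e u = 0) : OG Q :=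
  ofK hQ (eichE (QK Q hsim) e u he heu)
    (fun x => Q_of_QK h2 hsim (Q_eich (QK Q hsim) he heu x))

theorem eichOG_smul (h2 : (2 : F) ≠ 0) (hQ : (polarBilin Q).Nondegenerate)
    (hsim : ∀ x : ι → F, Q (ω • x) = μ * Q x) (e u : ι → F) (he : QK Q hsim e = 0)
    (heu : polar (QK Q hsim) e u = 0) (x : ι → F) :
    eichOG h2 hQ hsim e u he heu • x = eich (QK Q hsim) e u x := by
  rw [eichOG, ofK_smul]
  rfl

theorem eichOG_mem (h2 : (2 : F) ≠ 0) (hQ : (polarBilin Q).Nondegenerate)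
    (hsim : ∀ x : ι → F, Q (ω • x) = μ * Q x) (e u : ι → F) (he : QK Q hsim e = 0)
    (heu : polar (QK Q hsim) e u = 0) : eichOG h2 hQ hsim e u he heu ∈ E2 Q hsim :=
  ⟨e, u, he, heu, eichOG_smul h2 hQ hsim e u he heu⟩

theorem E2_mem_Omega (h2 : (2 : F) ≠ 0) (hQ : (polarBilin Q).Nondegenerate)
    (hn : 2 ≤ Fintype.card ι)
    (hsim : ∀ x : ι → F, Q (ω • x) = μ * Q x) {ρ : OG Q} (hρ : ρ ∈ E2 Q hsim) :
    ρ ∈ Cfsg.Omega F (⇑Q) := by
  obtain ⟨e, u, he, heu, hρ⟩ := hρ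
  have h2K := two_ne_zero_K (μ := μ) h2
  have heu' : polar (QK Q hsim) e ((2 : K)⁻¹ • u) = 0 := by
    rw [polar_smul_right, heu, smul_zero]
  obtain ⟨σ, hσ⟩ : ∃ σ, σ = eichOG h2 hQ hsim e ((2 : K)⁻¹ • u) he heu' := ⟨_, rfl⟩
  have hρσ : ρ = σ * σ := by
    apply ext_smul
    intro x
    rw [mul_smul, hσ, eichOG_smul, eichOG_smul, eich_half (QK Q hsim) h2K he heu, hρ]
  rw [hρσ]
  exact sq_mem_Omega h2 hQ hn σ

theorem E2_pow (r : ℕ) [CharP F r] (hsim : ∀ x : ι → F, Q (ω • x) = μ * Q x) {ρ : OG Q}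
    (hρ : ρ ∈ E2 Q hsim) : ρ ^ r = 1 := by
  obtain ⟨e, u, he, heu, hρ⟩ := hρ
  have key : ∀ (n : ℕ) (x : ι → F), (ρ ^ n) • x = eich (QK Q hsim) e (n • u) x := by
    intro n
    induction n with
    | zero =>
      intro x
      rw [pow_zero, one_smul, zero_smul, eich_zero]
      rfl
    | succ n ih =>
      intro x
      have h' : polar (QK Q hsim) e (n • u) = 0 := by
        rw [← Nat.cast_smul_eq_nsmul K, polar_smul_right, heu, smul_zero]
      rw [pow_succ, mul_smul, ih, hρ, eich_comp (QK Q hsim) he heu h', succ_nsmul']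
  apply ext_smul
  intro x
  rw [key, one_smul, ← Nat.cast_smul_eq_nsmul F, CharP.cast_eq_zero, zero_smul, eich_zero]
  rfl

theorem E2_comm (hsim : ∀ x : ι → F, Q (ω • x) = μ * Q x) (g₀ : GL ι F)
    (hg₀ : ∀ x : ι → F, (g₀ : Matrix ι ι F) *ᵥ x = ω • x) {ρ : OG Q}
    (hρ : ρ ∈ E2 Q hsim) : g₀ * (ρ : GL ι F) = (ρ : GL ι F) * g₀ := by
  obtain ⟨e, u, he, heu, hρ⟩ := hρ
  apply gl_eq_of_mulVec
  intro x
  rw [Units.val_mul, Units.val_mul, ← Matrix.mulVec_mulVec, ← Matrix.mulVec_mulVec, hg₀, hg₀,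
    ← smul_def, ← smul_def, hρ, hρ, map_smul]

end Conc

end Cfsg.Agent.Lib.Helper5.GInv
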