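import Mathlib
import Cfsg.Agent.Lib.Helper5.GInv.Class2B

set_option autoImplicit false

/-! Class 2, part (a): odd order subgroups commuting with `g` and normalized by the `K`-Eichler
transformations are trivial. -/

namespace Cfsg.Agent.Lib.Helper5.GInv

open Matrix QuadraticMap
open Cfsg.Agent.Lib.Helper5.PGO Cfsg.Agent.Lib.Helper5.OAut Cfsg.Agent.Lib.Helper5.OFld
open Cfsg.Agent.Lib.Helper2

section Conc
variable {F : Type*} [Field F] [Fintype F] {ι : Type} [Fintype ι] [DecidableEq ι]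
variable {Q : QuadraticForm F (ι → F)} {μ : F}
variable [Module (QuadraticAlgebra F μ 0) (ι → F)]
  [IsScalarTower F (QuadraticAlgebra F μ 0) (ι → F)]
variable [hμ : Fact (∀ r : F, r ^ 2 ≠ μ + 0 * r)]

local notation "K" => QuadraticAlgebra F μ 0
local notation "ω" => (⟨0, 1⟩ : QuadraticAlgebra F μ 0)

theorem comm_omega_of_comm (g₀ : GL ι F)
    (hg₀ : ∀ x : ι → F, (g₀ : Matrix ι ι F) *ᵥ x = ω • x) (h : OG Q)
    (hc : g₀ * (h : GL ι F) = (h : GL ι F) * g₀) (x : ι → F) :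
    h • (ω • x) = ω • (h • x) := by
  have h1 := congrArg (fun g : GL ι F => (g : Matrix ι ι F) *ᵥ x) hc
  simp only [Units.val_mul, ← Matrix.mulVec_mulVec] at h1
  rw [hg₀, hg₀] at h1
  exact h1.symm

theorem QK_smul_of_comm (hsim : ∀ x : ι → F, Q (ω • x) = μ * Q x) (h : OG Q)
    (hcomm : ∀ x : ι → F, h • (ω • x) = ω • (h • x)) (x : ι → F) :
    QK Q hsim (h • x) = QK Q hsim x := by
  rw [QK_apply, QK_apply]
  ext
  · rw [bkFun_re, bkFun_re, polar_smul_smul]
  · rw [bkFun_im, bkFun_im, ← hcomm, polar_smul_smul]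

set_option maxHeartbeats 800000 in
theorem trivial_class2 (h2 : (2 : F) ≠ 0) (hQ : (polarBilin Q).Nondegenerate)
    (hsim : ∀ x : ι → F, Q (ω • x) = μ * Q x) {n : ℕ} (hcard : Fintype.card ι = 2 * n)
    (hnd : n = 3 ∨ 5 ≤ n) (g₀ : GL ι F)
    (hg₀ : ∀ x : ι → F, (g₀ : Matrix ι ι F) *ᵥ x = ω • x)
    (H : Subgroup (OG Q)) (hodd : Odd (Nat.card H))
    (hHG : ∀ h ∈ H, g₀ * (h : GL ι F) = (h : GL ι F) * g₀)
    (hnorm : ∀ ρ ∈ E2 Q hsim, ∀ h ∈ H, ρ * h * ρ⁻¹ ∈ H) : ∀ h ∈ H, h = 1 := by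
  classical
  haveI : Finite K := finite_K
  haveI : FiniteDimensional K (ι → F) := finiteDimensional_K
  have hfr : Module.finrank K (ι → F) = n :=
    finrank_K (by rw [Module.finrank_fintype_fun_eq_card, hcard])
  have hcomm : ∀ h ∈ H, ∀ x : ι → F, h • (ω • x) = ω • (h • x) :=
    fun h hh x => comm_omega_of_comm g₀ hg₀ h (hHG h hh) x
  let Φ : ↥H →* ((ι → F) ≃ₗ[K] (ι → F)) :=
    { toFun := fun h => toK (h : OG Q) (hcomm _ h.2)
      map_one' := by
        apply LinearEquiv.ext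
        intro x
        rw [toK_apply, Subgroup.coe_one, one_smul]
        rfl
      map_mul' := fun a b => by
        apply LinearEquiv.ext
        intro x
        rw [toK_apply, Subgroup.coe_mul, mul_smul]
        rfl }
  have hΦ : ∀ (h : ↥H) (x : ι → F), Φ h x = (h : OG Q) • x := fun h x => rfl
  have hmain := nc_main (QK Q hsim) (two_ne_zero_K h2) (QK_nondeg Q hsim h2 hQ)
    (by rw [hfr]; exact hnd) Φ.range
    (Odd.of_dvd_nat hodd (Subgroup.card_range_dvd _))
    (by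
      rintro _ ⟨h, rfl⟩ x
      rw [hΦ]
      exact QK_smul_of_comm hsim _ (hcomm _ h.2) x)
    (by
      rintro e u he heu _ ⟨h, rfl⟩
      have hρ := eichOG_mem h2 hQ hsim e u he heu
      refine ⟨⟨_, hnorm _ hρ _ h.2⟩, ?_⟩
      apply LinearEquiv.ext
      intro x
      rw [hΦ]
      show (eichOG h2 hQ hsim e u he heu * (h : OG Q) * (eichOG h2 hQ hsim e u he heu)⁻¹) • x = _
      rw [mul_smul, mul_smul, eichOG_smul]
      have e1 : (eichOG h2 hQ hsim e u he heu)⁻¹ • x =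
          (eichE (QK Q hsim) e u he heu).symm x := by
        rw [inv_smul_eq_iff, eichOG_smul, ← eichE_apply (QK Q hsim) e u he heu,
          LinearEquiv.apply_symm_apply]
      rw [e1]
      rfl)
  intro h hh
  apply ext_smul
  intro x
  rw [one_smul]
  exact hmain _ ⟨⟨h, hh⟩, rfl⟩ x

end Conc

end Cfsg.Agent.Lib.Helper5.GInv
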