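import Mathlib
import Cfsg.Agent.Lib.Helper5.GInv.Class2C

set_option autoImplicit false

/-! Class 2, part (b): semilinear similarities commuting with `g` up to scalars and with the
`K`-Eichler transformations. -/

namespace Cfsg.Agent.Lib.Helper5.GInv

open Matrix QuadraticMap
open Cfsg.Agent.Lib.Helper5.PGO Cfsg.Agent.Lib.Helper5.OAut Cfsg.Agent.Lib.Helper5.OFld
open Cfsg.Agent.Lib.Helper2

section Conc
variable {F : Type*} [Field F] [Fintype F] {ι : Type} [Fintype ι] [DecidableEq ι]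
variable {Q : QuadraticForm F (ι → F)} {μ : F}
variable [Module (QuadraticAlgebra F μ 0) (ι → F)]
  [IsScalarTower F (QuadraticAlgebra F μ 0) (ι → F)]
variable [hμ : Fact (∀ r : F, r ^ 2 ≠ μ + 0 * r)]

local notation "K" => QuadraticAlgebra F μ 0
local notation "ω" => (⟨0, 1⟩ : QuadraticAlgebra F μ 0)

set_option maxHeartbeats 1600000 in
theorem scalar_class2 (h2 : (2 : F) ≠ 0) (hQ : (polarBilin Q).Nondegenerate)
    (hn : 7 ≤ Fintype.card ι)
    (hsim : ∀ x : ι → F, Q (ω • x) = μ * Q x) {n : ℕ} (hcard : Fintype.card ι = 2 * n)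
    (g₀ : GL ι F) (hg₀ω : ∀ x : ι → F, (g₀ : Matrix ι ι F) *ᵥ x = ω • x)
    (hg₀ : Cfsg.IsSemisimilarityPair (⇑Q) g₀ (1 : F ≃+* F))
    (h : GL ι F) (τ : F ≃+* F) (hp : Cfsg.IsSemisimilarityPair (⇑Q) h τ)
    (hcommx : PhiS h τ hp * PhiS g₀ 1 hg₀ = PhiS g₀ 1 hg₀ * PhiS h τ hp)
    (hfix : ∀ ρ ∈ E2 Q hsim, conjS h τ hp ρ = ρ) :
    PhiS h τ hp = 1 ∨ PhiS h τ hp = PhiS g₀ 1 hg₀ := by
  classical
  haveI : Finite K := finite_K
  haveI : FiniteDimensional K (ι → F) := finiteDimensional_K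
  have hfr : Module.finrank K (ι → F) = n :=
    finrank_K (by rw [Module.finrank_fintype_fun_eq_card, hcard])
  have hn3 : 3 ≤ n := by omega
  -- step 1: the scalar
  have hp1 : Cfsg.IsSemisimilarityPair (⇑Q) (h * mapGL τ g₀) τ := by
    have := pair_mul hp hg₀
    rw [mul_one] at this
    exact this
  have hp2 : Cfsg.IsSemisimilarityPair (⇑Q) (g₀ * h) τ := by
    have := pair_mul hg₀ hp
    rw [mapGL_one, one_mul] at this
    exact this
  rw [PhiS_mul, PhiS_mul, PhiS_congr (g' := h * mapGL τ g₀) (σ' := τ) rfl (mul_one τ) _ hp1,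
    PhiS_congr (g' := g₀ * h) (σ' := τ) (by rw [mapGL_one]) (one_mul τ) _ hp2,
    PhiS_eq_iff hQ hn] at hcommx
  obtain ⟨l, hl⟩ := hcommx
  -- step 2: the semilinear map and `ω`
  obtain ⟨κ, hf⟩ := qsemi_of_pair hp
  have hfω : ∀ x : ι → F, semi h τ (ω • x) = (l : F) • ω • semi h τ x := by
    intro x
    have e1 : semi h τ (ω • x) = ((h * mapGL τ g₀ : GL ι F) : Matrix ι ι F) *ᵥ
        (fun i => τ (x i)) := by
      rw [Units.val_mul, ← Matrix.mulVec_mulVec, mapGL_coe, map_mulVec, hg₀ω]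
      rfl
    rw [e1, hl, Units.val_mul, Units.val_mul, ← Matrix.mulVec_mulVec, ← Matrix.mulVec_mulVec,
      scalHom_mulVec, hg₀ω]
    rfl
  -- step 3: semilinearity over `K`
  obtain ⟨τK, hτK⟩ : ∃ τK : K → K, τK = fun c => ⟨τ c.re, (l : F) * τ c.im⟩ := ⟨_, rfl⟩
  have hsmulK : ∀ (c : K) (x : ι → F), semi h τ (c • x) = τK c • semi h τ x := by
    intro c x
    obtain ⟨a, b⟩ := c
    rw [hτK]
    show semi h τ ((⟨a, b⟩ : K) • x) = (⟨τ a, (l : F) * τ b⟩ : K) • semi h τ x
    rw [smul_mk' a b x, smul_mk' (τ a) ((l : F) * τ b) (semi h τ x), semi_add, semi_smul,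
      semi_smul, hfω, smul_smul, mul_comm]
  have hτK1 : τK 1 = 1 := by
    rw [hτK]
    ext
    · show τ 1 = 1
      exact map_one τ
    · show (l : F) * τ 0 = 0
      rw [map_zero, mul_zero]
  have hτK2 : τK 2 = 2 := by
    rw [hτK]
    ext
    · show τ (2 : K).re = (2 : K).re
      rw [QuadraticAlgebra.re_ofNat, map_ofNat]
    · show (l : F) * τ (2 : K).im = (2 : K).im
      rw [QuadraticAlgebra.im_ofNat, map_zero, mul_zero]
  have hinj : ∀ x, semi h τ x = 0 → x = 0 := by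
    intro x hx
    apply hf.injective hQ
    rw [hx, hf.zero]
  -- step 4: commuting with the Eichler transformations
  have hcomm : ∀ e u : ι → F, QK Q hsim e = 0 → polar (QK Q hsim) e u = 0 →
      ∀ x, semi h τ (eich (QK Q hsim) e u x) = eich (QK Q hsim) e u (semi h τ x) := by
    intro e u he heu x
    have h1 := semi_comm_of_conjS hp (hfix _ (eichOG_mem h2 hQ hsim e u he heu)) x
    rw [eichOG_smul, eichOG_smul] at h1
    exact h1
  obtain ⟨hτid, c, hc⟩ := sl_of_comm (QK Q hsim) (two_ne_zero_K h2) (QK_nondeg Q hsim h2 hQ)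
    (by rw [hfr]; exact hn3) τK hτK1 hτK2 (semi h τ) (semi_add h τ) hsmulK hinj hcomm
  -- step 5: conclusions
  have hτ1 : τ = 1 := by
    apply RingEquiv.ext
    intro a
    have := congrArg QuadraticAlgebra.re (hτid ⟨a, 0⟩)
    rw [hτK] at this
    exact this
  subst hτ1
  obtain ⟨a, b⟩ := c
  have hc' : ∀ x : ι → F, semi h 1 x = a • x + b • ω • x := by
    intro x
    rw [hc, smul_mk']
  have hform : ∀ x : ι → F, Q (a • x + b • ω • x) = κ * Q x := by
    intro x
    rw [← hc']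
    exact hf.form x
  obtain ⟨y₀, hy₀⟩ : ∃ y : ι → F, y ≠ 0 := by
    haveI : Nonempty ι := Fintype.card_pos_iff.1 (by omega)
    exact ⟨fun _ => 1, fun h0 => one_ne_zero (congrFun h0 (Classical.arbitrary ι))⟩
  rcases ab_zero Q hsim h2 hQ ⟨y₀, hy₀⟩ a b κ hform with ha | hb
  · -- `h` is a scalar multiple of `g₀`
    right
    subst ha
    have hb0 : b ≠ 0 := by
      rintro rfl
      apply hy₀
      apply hinj
      rw [hc', zero_smul, zero_smul, add_zero]
    rw [PhiS_eq_iff hQ hn hp hg₀]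
    refine ⟨Units.mk0 b hb0, ?_⟩
    apply gl_eq_of_mulVec
    intro v
    rw [Units.val_mul, ← Matrix.mulVec_mulVec, scalHom_mulVec, Units.val_mk0, hg₀ω,
      ← semi_one_eq, hc', zero_smul, zero_add]
  · left
    subst hb
    have ha0 : a ≠ 0 := by
      rintro rfl
      apply hy₀
      apply hinj
      rw [hc', zero_smul, zero_smul, add_zero]
    have hh : h = scalHom (Units.mk0 a ha0) := by
      apply gl_eq_of_mulVec
      intro v
      rw [scalHom_mulVec, Units.val_mk0, ← semi_one_eq, hc', zero_smul, add_zero]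
    subst hh
    exact PhiS_scal _ hp

end Conc

end Cfsg.Agent.Lib.Helper5.GInv
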