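import Mathlib
import Cfsg.Agent.Lib.Helper5.GInv.Class2D

set_option autoImplicit false

/-! Class 2: similarities `g` with `g² = μ` a nonsquare scalar equal to the multiplier. -/

namespace Cfsg.Agent.Lib.Helper5.GInv

open Matrix QuadraticMap
open Cfsg.Agent.Lib.Helper5.PGO Cfsg.Agent.Lib.Helper5.OAut Cfsg.Agent.Lib.Helper5.OFld
open Cfsg.Agent.Lib.Helper5.PSpBal
open Cfsg.Agent.Lib.Helper2

section Conc
variable {F : Type*} [Field F] [Fintype F] {ι : Type} [Fintype ι] [DecidableEq ι]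
variable {Q : QuadraticForm F (ι → F)} {μ : F}
variable [Module (QuadraticAlgebra F μ 0) (ι → F)]
  [IsScalarTower F (QuadraticAlgebra F μ 0) (ι → F)]
variable [hμ : Fact (∀ r : F, r ^ 2 ≠ μ + 0 * r)]

local notation "K" => QuadraticAlgebra F μ 0
local notation "ω" => (⟨0, 1⟩ : QuadraticAlgebra F μ 0)

theorem no_core_class2 (r : ℕ) [Fact r.Prime] [CharP F r] (h2 : (2 : F) ≠ 0)
    (hQ : (polarBilin Q).Nondegenerate) (hn : 7 ≤ Fintype.card ι)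
    (hLag : ∀ T : Submodule F (ι → F), (∀ x ∈ T, Q x = 0) →
      (∀ y, (∀ x ∈ T, QuadraticMap.polar (⇑Q) x y = 0) → y ∈ T) → 5 ≤ Module.finrank F ↥T)
    (hsim : ∀ x : ι → F, Q (ω • x) = μ * Q x) {n : ℕ} (hcard : Fintype.card ι = 2 * n)
    (hnd : n = 3 ∨ 5 ≤ n)
    (g₀ : GL ι F) (hg₀ω : ∀ x : ι → F, (g₀ : Matrix ι ι F) *ᵥ x = ω • x)
    (hg₀ : Cfsg.IsSemisimilarityPair (⇑Q) g₀ (1 : F ≃+* F))
    (hx2 : PhiS g₀ 1 hg₀ * PhiS g₀ 1 hg₀ = 1)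
    (A : Subgroup (MulAut (Cfsg.POmega F (⇑Q))))
    (hinn : ∀ k : Cfsg.POmega F (⇑Q), MulAut.conj k ∈ A)
    (N : Subgroup (MulAut (Cfsg.POmega F (⇑Q))))
    (hN : HasCore 2 A (PhiS g₀ 1 hg₀) N) : False :=
  no_core_gen r hQ hn hLag g₀ hg₀ hx2 (E2 Q hsim)
    (fun _ hρ => E2_mem_Omega h2 hQ (by omega) hsim hρ)
    (fun _ hρ => E2_pow r hsim hρ)
    (fun _ hρ => E2_comm hsim g₀ hg₀ω hρ)
    (fun H hodd _ hHG hnorm => trivial_class2 h2 hQ hsim hcard hnd g₀ hg₀ω H hodd hHG hnorm)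
    (fun h τ hp hc hfix => scalar_class2 h2 hQ hn hsim hcard g₀ hg₀ω hg₀ h τ hp hc hfix)
    A hinn N hN

end Conc

end Cfsg.Agent.Lib.Helper5.GInv
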