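import Mathlib
import Cfsg.Agent.Lib.Helper5.OFld56

set_option autoImplicit false

/-! Classification of the similarities whose square is a scalar and which lie outside the
connected similarity group. -/

namespace Cfsg.Agent.Lib.Helper5.GInv

open Matrix Module QuadraticMap Cfsg.Agent.Lib.Helper5.PGO
open Cfsg.Agent.Lib.Helper5.OFld
open Cfsg.Agent.Lib.Helper2 Cfsg.Agent.Lib.Helper2.CDG Cfsg.Agent.Lib.Helper5.MaxTS

section Classify
variable {F : Type*} [Field F] [Fintype F] {ι : Type} [Fintype ι] [DecidableEq ι]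
variable {Q : QuadraticForm F (ι → F)}

set_option maxHeartbeats 1600000 in
/-- a similarity whose square is a scalar and which is not in the connected similarity group is
either a scalar multiple of an isometric involution with odd dimensional eigenspaces, or has
square a nonsquare scalar equal to its multiplier (and half the dimension is odd) -/
theorem classify_graph (h2 : (2 : F) ≠ 0) (hQ : (polarBilin Q).Nondegenerate)
    (hQ0 : ∃ v, Q v ≠ 0) {n : ℕ} (hcard : Fintype.card ι = 2 * n)
    (g₀ : ↥(GO (⇑Q))) (l : Fˣ) (hsq : g₀ * g₀ = scalGO Q l)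
    (heps : epsHom Q hQ0 n g₀ ≠ 1) :
    ((mu (⇑Q) g₀ : Fˣ) : F) = (l : F) ∧
    ((∃ c : F, c ≠ 0 ∧ c * c = (l : F) ∧
        Odd (finrank F ↥(Vp (c⁻¹ • ((g₀ : GL ι F) : Matrix ι ι F)))) ∧
        Odd (finrank F ↥(Vm (c⁻¹ • ((g₀ : GL ι F) : Matrix ι ι F))))) ∨
      (¬ IsSquare (l : F) ∧ Odd n)) := by
  classical
  set M : Matrix ι ι F := ((g₀ : GL ι F) : Matrix ι ι F) with hM
  set μ : F := ((mu (⇑Q) g₀ : Fˣ) : F) with hμdef
  have hμ : ∀ v, Q (M *ᵥ v) = μ * Q v := mu_spec (⇑Q) g₀
  have hμ0 : μ ≠ 0 := (mu (⇑Q) g₀).ne_zero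
  have hl0 : (l : F) ≠ 0 := l.ne_zero
  have hMMmat : M * M = Matrix.scalar ι (l : F) := by
    have := congrArg (fun g : ↥(GO (⇑Q)) => ((g : GL ι F) : Matrix ι ι F)) hsq
    exact this
  have hμl : μ * μ = (l : F) * l := by
    have h1 := congrArg (muHom (⇑Q) hQ0) hsq
    rw [map_mul, muHom_apply, muHom_apply, mu_scal hQ0] at h1
    have := congrArg Units.val h1
    rw [Units.val_mul, Units.val_mul] at this
    exact this
  -- the involution attached to a square root of `l`
  have invol : ∀ c : F, c * c = (l : F) → c ≠ 0 ∧ (c⁻¹ • M) * (c⁻¹ • M) = 1 ∧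
      M = c • (c⁻¹ • M) := by
    intro c hcc
    have hc0 : c ≠ 0 := by
      rintro rfl
      rw [mul_zero] at hcc
      exact hl0 hcc.symm
    refine ⟨hc0, ?_, ?_⟩
    · rw [Matrix.smul_mul, Matrix.mul_smul, smul_smul, hMMmat, ← hcc]
      ext a b
      simp only [Matrix.smul_apply, Matrix.scalar_apply, Matrix.diagonal_apply,
        Matrix.one_apply, smul_eq_mul]
      split_ifs
      · field_simp
      · simp
    · rw [smul_smul, mul_inv_cancel₀ hc0, one_smul]
  have hdetM : ∀ c : F, c * c = (l : F) → M.det = (l : F) ^ n * (c⁻¹ • M).det := by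
    intro c hcc
    obtain ⟨hc0, -, hMG⟩ := invol c hcc
    conv_lhs => rw [hMG]
    rw [Matrix.det_smul, hcard, pow_mul, pow_two, hcc]
  have hcases : (μ - l) * (μ + l) = 0 := by linear_combination hμl
  rcases mul_eq_zero.1 hcases with hc | hc
  · -- self-adjoint case
    have hμeq : μ = l := sub_eq_zero.1 hc
    refine ⟨hμeq, ?_⟩
    by_cases hls : IsSquare (l : F)
    · left
      obtain ⟨c, hcc⟩ := hls
      obtain ⟨hc0, hGG, hMG⟩ := invol c hcc.symm
      refine ⟨c, hc0, hcc.symm, ?_⟩
      have hdetG := det_invol h2 (c⁻¹ • M) hGG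
      have hoddm : Odd (finrank F ↥(Vm (c⁻¹ • M))) := by
        rw [← Nat.not_even_iff_odd]
        intro hev
        apply heps
        apply eps_eq_one_of_det
        rw [← hM, ← hμdef, hdetM c hcc.symm, hdetG, hev.neg_one_pow, mul_one, hμeq]
      have hsum := finrank_Vp_add_Vm h2 (c⁻¹ • M) hGG
      refine ⟨?_, hoddm⟩
      rw [← Nat.not_even_iff_odd]
      intro hev
      have : Odd (Fintype.card ι) := by
        rw [← hsum]
        exact Even.add_odd hev hoddm
      rw [hcard] at this
      exact (Nat.not_even_iff_odd.2 this) (even_two_mul n)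
    · right
      refine ⟨hls, ?_⟩
      rw [← Nat.not_even_iff_odd]
      intro hev
      apply heps
      apply eps_eq_one_of_det
      rw [← hM, ← hμdef, det_of_sq_scalar M (l : F) hMMmat hls hcard, hμeq, hev.neg_pow]
  · -- skew case: impossible
    exfalso
    have hμeq : μ = -l := eq_neg_of_add_eq_zero_left hc
    apply heps
    apply eps_eq_one_of_det
    rw [← hM, ← hμdef]
    by_cases hls : IsSquare (l : F)
    · obtain ⟨c, hcc⟩ := hls
      obtain ⟨hc0, hGG, hMG⟩ := invol c hcc.symm
      set G : Matrix ι ι F := c⁻¹ • M with hG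
      have hGx : ∀ x, G *ᵥ x = c⁻¹ • (M *ᵥ x) := fun x => by rw [hG, Matrix.smul_mulVec]
      have hGQ : ∀ x, Q (G *ᵥ x) = -Q x := by
        intro x
        rw [hGx, QuadraticMap.map_smul, hμ, hμeq, hcc, smul_eq_mul]
        field_simp
      have htsp : IsTS Q (Vp G) := by
        intro x hx
        rw [mem_Vp] at hx
        have := hGQ x
        rw [hx] at this
        have h3 : (2 : F) * Q x = 0 := by linear_combination this
        rcases mul_eq_zero.1 h3 with h | h
        · exact absurd h h2
        · exact h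
      have htsm : IsTS Q (Vm G) := by
        intro x hx
        rw [mem_Vm] at hx
        have := hGQ x
        rw [hx, QuadraticMap.map_neg] at this
        have h3 : (2 : F) * Q x = 0 := by linear_combination this
        rcases mul_eq_zero.1 h3 with h | h
        · exact absurd h h2
        · exact h
      have b1 := IsTS.finrank_le hQ htsp
      have b2 := IsTS.finrank_le hQ htsm
      have b3 := finrank_Vp_add_Vm h2 G hGG
      have hfm : finrank F ↥(Vm G) = n := by omega
      have hdetG := det_invol h2 G hGG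
      rw [hfm] at hdetG
      rw [hdetM c hcc.symm, hdetG, hμeq, ← mul_pow]
      congr 1
      ring
    · rw [det_of_sq_scalar M (l : F) hMMmat hls hcard, hμeq]

end Classify

end Cfsg.Agent.Lib.Helper5.GInv
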