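import Mathlib
import Cfsg.Agent.Lib.Helper5.GInv.Class2
import Cfsg.Agent.Lib.Helper5.GInv.Classify

set_option autoImplicit false

/-! The centralizer of an involutory graph automorphism of an even dimensional orthogonal group
in odd characteristic has no nontrivial normal subgroup of odd order. -/

namespace Cfsg.Agent.Lib.Helper5.GInv

open Matrix QuadraticMap
open Cfsg.Agent.Lib.Helper5.PGO Cfsg.Agent.Lib.Helper5.OAut Cfsg.Agent.Lib.Helper5.OFld
open Cfsg.Agent.Lib.Helper5.PSpBal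
open Cfsg.Agent.Lib.Helper2

section Graph
variable {F : Type*} [Field F] [Fintype F] {ι : Type} [Fintype ι] [DecidableEq ι]
variable {Q : QuadraticForm F (ι → F)}

set_option maxHeartbeats 1600000 in
theorem no_core_graph (r : ℕ) [Fact r.Prime] [CharP F r] (h2 : (2 : F) ≠ 0)
    (hQ : (polarBilin Q).Nondegenerate) (hQ0 : ∃ v, Q v ≠ 0) {n : ℕ}
    (hcard : Fintype.card ι = 2 * n) (hn : 7 ≤ Fintype.card ι)
    (hLag : ∀ T : Submodule F (ι → F), (∀ x ∈ T, Q x = 0) →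
      (∀ y, (∀ x ∈ T, QuadraticMap.polar (⇑Q) x y = 0) → y ∈ T) → 5 ≤ Module.finrank F ↥T)
    (g₀ : ↥(GO (⇑Q))) (heps : epsHom Q hQ0 n g₀ ≠ 1)
    (hx2 : Phi (⇑Q) g₀ * Phi (⇑Q) g₀ = 1)
    (A : Subgroup (MulAut (Cfsg.POmega F (⇑Q))))
    (hinn : ∀ k : Cfsg.POmega F (⇑Q), MulAut.conj k ∈ A)
    (N : Subgroup (MulAut (Cfsg.POmega F (⇑Q))))
    (hN : HasCore 2 A (Phi (⇑Q) g₀) N) : False := by
  classical
  have hker : g₀ * g₀ ∈ (Phi (⇑Q)).ker := by
    rw [MonoidHom.mem_ker, map_mul]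
    exact hx2
  rw [ker_eq hQ hn] at hker
  obtain ⟨l, hl⟩ := hker
  have hsq : g₀ * g₀ = scalGO Q l := hl.symm
  obtain ⟨M, hM⟩ : ∃ M : Matrix ι ι F, M = ((g₀ : GL ι F) : Matrix ι ι F) := ⟨_, rfl⟩
  have hMMmat : M * M = Matrix.scalar ι (l : F) := by
    have := congrArg (fun g : ↥(GO (⇑Q)) => ((g : GL ι F) : Matrix ι ι F)) hsq
    rw [hM]
    exact this
  have hMM : ∀ x, M *ᵥ (M *ᵥ x) = (l : F) • x := by
    intro x
    rw [Matrix.mulVec_mulVec, hMMmat]
    exact scalHom_mulVec l x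
  obtain ⟨hμeq, hcases⟩ := classify_graph h2 hQ hQ0 hcard g₀ l hsq heps
  have hμ : ∀ v, Q (M *ᵥ v) = (l : F) * Q v := by
    intro v
    rw [hM, ← hμeq]
    exact mu_spec (⇑Q) g₀ v
  have hg₀p := pair_of_GO g₀
  have hPhi : Phi (⇑Q) g₀ = PhiS (g₀ : GL ι F) 1 hg₀p := (PhiS_one_eq g₀ hg₀p).symm
  rw [← hM] at hcases
  rcases hcases with ⟨c, hc0, hcc, hoddp, hoddm⟩ | ⟨hls, hodd⟩
  · -- class 1
    have hGQ : ∀ x, Q ((c⁻¹ • M) *ᵥ x) = Q x := by
      intro x
      rw [Matrix.smul_mulVec, QuadraticMap.map_smul, hμ, ← hcc, smul_eq_mul]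
      field_simp
    obtain ⟨G, hGdef⟩ : ∃ G : OG Q, G = Siegel.mkIso hQ (c⁻¹ • M) hGQ := ⟨_, rfl⟩
    have hGM : ((G : GL ι F) : Matrix ι ι F) = c⁻¹ • M := by rw [hGdef]; rfl
    have hGs : ∀ x, G • x = c⁻¹ • (M *ᵥ x) := by
      intro x
      rw [smul_def, hGM, Matrix.smul_mulVec]
    have hGG : G * G = 1 := by
      apply ext_smul
      intro x
      rw [mul_smul, hGs, hGs, Matrix.mulVec_smul, hMM, smul_smul, smul_smul, ← hcc, one_smul]
      have : c⁻¹ * c⁻¹ * (c * c) = 1 := by field_simp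
      rw [this, one_smul]
    have hG : Cfsg.IsSemisimilarityPair (⇑Q) (G : GL ι F) (1 : F ≃+* F) :=
      ⟨1, fun v => by
        rw [Units.val_one, one_mul]
        exact Q_smul G v⟩
    have hPhiG : Phi (⇑Q) g₀ = PhiS (G : GL ι F) 1 hG := by
      rw [hPhi, PhiS_eq_iff hQ hn]
      refine ⟨Units.mk0 c hc0, ?_⟩
      apply gl_eq_of_mulVec
      intro v
      rw [Units.val_mul, ← Matrix.mulVec_mulVec, scalHom_mulVec, Units.val_mk0, hGM,
        Matrix.smul_mulVec, smul_smul, mul_inv_cancel₀ hc0, one_smul, hM]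
    rw [hPhiG] at hN
    rw [← hGM] at hoddp hoddm
    exact no_core_class1 r h2 hQ hn hLag G hGG hG hoddp hoddm A hinn N hN
  · -- class 2
    have hn5 : n = 3 ∨ 5 ≤ n := by
      right
      obtain ⟨k, hk⟩ := hodd
      omega
    haveI hμF : Fact (∀ t : F, t ^ 2 ≠ (l : F) + 0 * t) :=
      ⟨fun t ht => hls ⟨t, by rw [← pow_two, ht]; ring⟩⟩
    have hsqEnd : Matrix.toLin' M * Matrix.toLin' M =
        (l : F) • (1 : Module.End F (ι → F)) + (0 : F) • Matrix.toLin' M := by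
      rw [zero_smul, add_zero]
      apply LinearMap.ext
      intro x
      rw [Module.End.mul_apply, Matrix.toLin'_apply, Matrix.toLin'_apply, hMM]
      rfl
    let φ : QuadraticAlgebra F (l : F) 0 →ₐ[F] Module.End F (ι → F) :=
      QuadraticAlgebra.lift ⟨Matrix.toLin' M, hsqEnd⟩
    letI instK : Module (QuadraticAlgebra F (l : F) 0) (ι → F) :=
      Module.compHom (ι → F) φ.toRingHom
    have hsmul : ∀ (c : QuadraticAlgebra F (l : F) 0) (x : ι → F),
        c • x = c.re • x + c.im • (M *ᵥ x) := by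
      intro c x
      show φ c x = _
      rw [QuadraticAlgebra.lift_apply_apply]
      rfl
    haveI : IsScalarTower F (QuadraticAlgebra F (l : F) 0) (ι → F) := by
      refine ⟨fun a c x => ?_⟩
      rw [hsmul, hsmul, QuadraticAlgebra.re_smul, QuadraticAlgebra.im_smul, smul_add,
        smul_smul, smul_smul]
      rfl
    have hω : ∀ x : ι → F, ((g₀ : GL ι F) : Matrix ι ι F) *ᵥ x =
        (⟨0, 1⟩ : QuadraticAlgebra F (l : F) 0) • x := by
      intro x
      rw [hsmul, zero_smul, zero_add, one_smul, hM]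
    have hsim : ∀ x : ι → F, Q ((⟨0, 1⟩ : QuadraticAlgebra F (l : F) 0) • x) =
        (l : F) * Q x := by
      intro x
      rw [← hω, ← hM]
      exact hμ x
    rw [hPhi] at hN hx2
    exact no_core_class2 r h2 hQ hn hLag hsim hcard hn5 (g₀ : GL ι F) hω hg₀p hx2 A hinn N hN

end Graph

end Cfsg.Agent.Lib.Helper5.GInv
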