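import Mathlib
import Cfsg.Agent.Lib.Helper5.GInv.NoCore2
import Cfsg.Agent.Lib.Helper5.OFld35

set_option autoImplicit false

/-! Transport of the local balance data along an isomorphism of groups; squares of isometries
lie in `Ω` in every characteristic. -/

namespace Cfsg.Agent.Lib.Helper5.GInv

open Cfsg.Agent.Lib.Helper5.PSpBal

section Transport
variable {K K' : Type*} [Group K] [Group K']

theorem congr_conj (ψ : K ≃* K') (k : K) :
    MulAut.congr ψ (MulAut.conj k) = MulAut.conj (ψ k) := by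
  apply MulEquiv.ext
  intro y
  show ψ (k * ψ.symm y * k⁻¹) = ψ k * y * (ψ k)⁻¹
  rw [map_mul, map_mul, map_inv, MulEquiv.apply_symm_apply]

theorem congr_apply (ψ : K ≃* K') (x : MulAut K) (y : K') :
    MulAut.congr ψ x y = ψ (x (ψ.symm y)) := rfl

/-- the fixed points of a transported automorphism -/
theorem card_fix_congr (ψ : K ≃* K') (x : MulAut K) :
    Nat.card ↥(MonoidHom.eqLocus (MulAut.congr ψ x).toMonoidHom (MonoidHom.id K')) =
      Nat.card ↥(MonoidHom.eqLocus x.toMonoidHom (MonoidHom.id K)) := by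
  symm
  apply Nat.card_congr
  refine ⟨fun k => ⟨ψ k.1, ?_⟩, fun k => ⟨ψ.symm k.1, ?_⟩, fun k => ?_, fun k => ?_⟩
  · show MulAut.congr ψ x (ψ k.1) = ψ k.1
    rw [congr_apply, MulEquiv.symm_apply_apply]
    exact congrArg ψ k.2
  · show x (ψ.symm k.1) = ψ.symm k.1
    have h : MulAut.congr ψ x k.1 = k.1 := k.2
    rw [congr_apply] at h
    have := congrArg ψ.symm h
    rw [MulEquiv.symm_apply_apply] at this
    exact this
  · apply Subtype.ext
    exact ψ.symm_apply_apply _
  · apply Subtype.ext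
    exact ψ.apply_symm_apply _

/-- transport of the core data along an isomorphism of the automorphism groups -/
theorem HasCore.map_equiv {p : ℕ} {A : Subgroup (MulAut K)} {x : MulAut K}
    {N : Subgroup (MulAut K)} (h : HasCore p A x N) (e : MulAut K ≃* MulAut K') :
    HasCore p (A.map e.toMonoidHom) (e x) (N.map e.toMonoidHom) := by
  obtain ⟨hnb, hle, hnorm, hcop⟩ := h
  have hinj : Function.Injective e.toMonoidHom := e.injective
  have hcen : ∀ y : MulAut K, y ∈ Subgroup.centralizer ({x} : Set (MulAut K)) →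
      e y ∈ Subgroup.centralizer ({e x} : Set (MulAut K')) := by
    intro y hy
    rw [Subgroup.mem_centralizer_iff] at hy ⊢
    intro z hz
    rw [Set.mem_singleton_iff] at hz
    subst hz
    rw [← map_mul, ← map_mul, hy x rfl]
  have hcen' : ∀ y : MulAut K, e y ∈ Subgroup.centralizer ({e x} : Set (MulAut K')) →
      y ∈ Subgroup.centralizer ({x} : Set (MulAut K)) := by
    intro y hy
    rw [Subgroup.mem_centralizer_iff] at hy ⊢
    intro z hz
    rw [Set.mem_singleton_iff] at hz
    subst hz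
    apply e.injective
    rw [map_mul, map_mul]
    exact hy _ rfl
  refine ⟨?_, ?_, ?_, ?_⟩
  · intro h0
    apply hnb
    rw [eq_bot_iff]
    intro n hn
    have : e n ∈ N.map e.toMonoidHom := ⟨n, hn, rfl⟩
    rw [h0, Subgroup.mem_bot] at this
    rw [Subgroup.mem_bot]
    apply e.injective
    rw [this, map_one]
  · rintro _ ⟨n, hn, rfl⟩
    exact ⟨⟨n, (hle hn).1, rfl⟩, hcen n (hle hn).2⟩
  · rintro _ ⟨⟨a, ha, rfl⟩, hac⟩ _ ⟨n, hn, rfl⟩
    refine ⟨a * n * a⁻¹, hnorm a ⟨ha, hcen' a hac⟩ n hn, ?_⟩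
    show e (a * n * a⁻¹) = e a * e n * (e a)⁻¹
    rw [map_mul, map_mul, map_inv]
  · rw [Subgroup.card_map_of_injective hinj]
    exact hcop

end Transport

section Sq
open Cfsg.Agent.Lib.Helper5.OFld Cfsg.Agent.Lib.Helper5.OmegaCrit Cfsg.Agent.Lib.Helper2.Dickson
open Cfsg.Agent.Lib.Helper2

variable {F : Type*} [Field F] [Fintype F] {ι : Type} [Fintype ι] [DecidableEq ι]
variable {Q : QuadraticForm F (ι → F)}

/-- squares of isometries lie in `Ω` -/
theorem sq_mem_Omega_all (hQ : (QuadraticMap.polarBilin Q).Nondegenerate)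
    (hn : 5 ≤ Fintype.card ι) (d : ↥(Cfsg.isometryGroup F (⇑Q))) :
    d * d ∈ Cfsg.Omega F (⇑Q) := by
  by_cases h2 : (2 : F) = 0
  · have hex : Fintype.card F ≠ 2 ∨ Fintype.card ι ≠ 4 := Or.inr (by omega)
    show d * d ∈ commutator ↥(Cfsg.isometryGroup F (⇑Q))
    rw [mem_commutator_iff₂ h2 hQ hex (by omega),
      dfun_mul hQ (closure_R_all hQ hex (by omega))]
    have key : ∀ a : ZMod 2, a + a = 0 := by decide
    exact key _
  · exact sq_mem_Omega h2 hQ (by omega) d

end Sq

end Cfsg.Agent.Lib.Helper5.GInv
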