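import Mathlib
import Cfsg.Agent.Lib.Helper5.GInv.Transport
import Cfsg.Agent.Lib.Helper5.GInv.Graph
import Cfsg.Agent.Lib.Helper5.OFld59

set_option autoImplicit false

/-! The minus type orthogonal groups: preliminary lemmas for the local balance criterion. -/

namespace Cfsg.Agent.Lib.Helper5.GInv

open Matrix QuadraticMap
open Cfsg.Agent.Lib.Helper5.PGO Cfsg.Agent.Lib.Helper5.OAut Cfsg.Agent.Lib.Helper5.OFld
open Cfsg.Agent.Lib.Helper5.PSpBal Cfsg.Agent.Lib.Helper5.PSLCoset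
open Cfsg.Agent.Lib.Helper2 Cfsg.Agent.Lib.Helper2.OrthCard

section Minus
variable {F : Type*} [Field F] [Fintype F] {m : ℕ}

/-- a field automorphism of the minus type group has odd order -/
theorem not_field_of_order_two (r : ℕ) [Fact r.Prime] [CharP F r] (hm : 3 ≤ m) (a b a' b' : F)
    (hab' : ∀ z₁ z₂ : F, z₁ ^ 2 + a' * z₁ * z₂ + b' * z₂ ^ 2 = 0 → z₁ = 0 ∧ z₂ = 0)
    (ψ : Cfsg.POmega F ⇑(QMn m a b) ≃* Cfsg.POmega F ⇑(QMn m a' b')) (σ : F ≃+* F)
    (hσa : σ a' = a') (hσb : σ b' = b') (x : MulAut (Cfsg.POmega F ⇑(QMn m a b)))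
    (hfield : Cfsg.IsFieldAutPOmegaOf (⇑(QMn m a' b')) σ ((ψ.symm.trans x).trans ψ))
    (hord : orderOf x = 2) : False := by
  classical
  have hstd := pair_std_minus m a' b' σ hσa hσb
  have hQ' := QMn_nondeg (F := F) m a' b' hab'
  have hn : 7 ≤ Fintype.card ((Fin m ⊕ Fin m) ⊕ Fin 2) := by rw [card_minus_index]; omega
  have hx' : MulAut.congr ψ x = PhiS 1 σ hstd := (isFieldAut_iff' hstd _).1 hfield
  have hσr : orderOf σ = 2 := by
    rw [← orderOf_PhiS_std r hQ' hn (lag_minus a' b' hab') hstd, ← hx', MulEquiv.orderOf_eq, hord]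
  obtain ⟨f, -, hF⟩ := FiniteField.card F r
  obtain ⟨h2f, hcf⟩ := card_fixed hF σ 2 hσr (by norm_num)
  haveI : Fintype ↥(fixF σ) := Fintype.ofFinite _
  have hF₀ : Fintype.card ↥(fixF σ) = r ^ ((f : ℕ) / 2) := by
    rw [← Nat.card_eq_fintype_card]
    exact hcf
  have hodd := odd_of_aniso_fixed hF 2 Nat.prime_two h2f hF₀ (fixF σ).subtype
    ⟨a', hσa⟩ ⟨b', hσb⟩ hab'
  exact absurd hodd (by decide)

omit [Fintype F] in
theorem exists_of_mem_inndiagQM {ι : Type} [Fintype ι] [DecidableEq ι] (Q : (ι → F) → F)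
    (P : Matrix ι ι F → Prop) (S : Subgroup ↥(GO Q))
    (hP : ∀ g : ↥(GO Q), P ((g : GL ι F) : Matrix ι ι F) ↔ g ∈ S)
    {x : MulAut (Cfsg.POmega F Q)} (hx : x ∈ inndiagQM Q P) :
    ∃ g : GL ι F, g ∈ Cfsg.Geo.quadSimilarityGroup (F := F) Q ∧ P (g : Matrix ι ι F) ∧
      Cfsg.IsInducedBySemilinearPOmega Q g (RingEquiv.refl F) x := by
  rw [inndiagQM_eq Q P S hP] at hx
  obtain ⟨g, hg, rfl⟩ := hx
  exact ⟨g, g.2, (hP g).2 hg, (Cfsg.Agent.Lib.Helper5.PGO.induced_iff Q g _).2 rfl⟩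

/-- elements of the inner-diagonal group are inner-diagonal automorphisms -/
theorem minus_innerdiag_of_mem (hm : 3 ≤ m) (a b : F)
    (hab : ∀ z₁ z₂ : F, z₁ ^ 2 + a * z₁ * z₂ + b * z₂ ^ 2 = 0 → z₁ = 0 ∧ z₂ = 0)
    {x : MulAut (Cfsg.POmega F ⇑(QMn m a b))}
    (hx : x ∈ inndiagQM ⇑(QMn m a b) (Cfsg.PreservesSingularClassesMinus m a b)) :
    ∃ g : GL ((Fin m ⊕ Fin m) ⊕ Fin 2) F,
      g ∈ Cfsg.Geo.quadSimilarityGroup (F := F) ⇑(QMn m a b) ∧
      Cfsg.PreservesSingularClassesMinus m a b (g : Matrix _ _ F) ∧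
      Cfsg.IsInducedBySemilinearPOmega ⇑(QMn m a b) g (RingEquiv.refl F) x := by
  classical
  by_cases h2 : (2 : F) = 0
  · exact exists_of_mem_inndiagQM _ _
      ((Cfsg.Inn (Cfsg.POmega F ⇑(QMn m a b))).comap (Phi (⇑(QMn m a b))))
      (fun g => by rw [preserves_iff_inn_two h2 hm a b hab g, Subgroup.mem_comap]) hx
  · have hodd := odd_card_of_two_ne_zero h2
    exact exists_of_mem_inndiagQM _ _ (GOp (QMn m a b) (QMn_ne_zero m a b) (m + 1))
      (fun g => by rw [preserves_minus_iff hodd a b hab]; rfl) hx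

/-- an automorphism of odd prime order induced by a similarity is inner-diagonal -/
theorem not_mem_pgo_of_odd (hm : 3 ≤ m) (a b : F)
    (hab : ∀ z₁ z₂ : F, z₁ ^ 2 + a * z₁ * z₂ + b * z₂ ^ 2 = 0 → z₁ = 0 ∧ z₂ = 0)
    (x : MulAut (Cfsg.POmega F ⇑(QMn m a b))) {p : ℕ} (hp : p.Prime) (hp2 : p ≠ 2)
    (hord : orderOf x = p)
    (hnot : x ∉ inndiagQM ⇑(QMn m a b) (Cfsg.PreservesSingularClassesMinus m a b)) :
    x ∉ Cfsg.pgoAut F ⇑(QMn m a b) := by
  classical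
  intro hxP
  have hQ := QMn_nondeg (F := F) m a b hab
  have hQ0 := QMn_ne_zero (F := F) m a b
  have hcard := PGO.card_minus m
  have hn : 7 ≤ Fintype.card ((Fin m ⊕ Fin m) ⊕ Fin 2) := by rw [card_minus_index]; omega
  have hsq : x * x ∈ inndiagQM ⇑(QMn m a b) (Cfsg.PreservesSingularClassesMinus m a b) := by
    by_cases h2 : (2 : F) = 0
    · rw [inndiag_minus_two h2 hm a b hab] at hnot ⊢
      exact inn_mul_of_not_mem h2 hQ hn x x hxP hxP hnot hnot
    · have hodd := odd_card_of_two_ne_zero h2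
      rw [inndiag_minus hodd a b hab] at hnot ⊢
      exact idg_mul_of_not_mem hQ hQ0 hcard h2 hn x x hxP hxP hnot hnot
  obtain ⟨k, hk⟩ := hp.eq_two_or_odd'.resolve_left hp2
  have hxp : x ^ p = 1 := by rw [← hord]; exact pow_orderOf_eq_one x
  have hx : x = ((x * x) ^ k)⁻¹ := by
    rw [eq_inv_iff_mul_eq_one, ← pow_two, ← pow_mul, ← pow_succ', ← hk]
    exact hxp
  apply hnot
  rw [hx]
  exact Subgroup.inv_mem _ (Subgroup.pow_mem _ hsq k)

/-- involutory automorphisms outside the inner-diagonal group: no core -/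
theorem no_core_minus_two (r : ℕ) [Fact r.Prime] [CharP F r] (hr2 : r ≠ 2) (hm : 3 ≤ m)
    (a b : F)
    (hab : ∀ z₁ z₂ : F, z₁ ^ 2 + a * z₁ * z₂ + b * z₂ ^ 2 = 0 → z₁ = 0 ∧ z₂ = 0)
    (A : Subgroup (MulAut (Cfsg.POmega F ⇑(QMn m a b))))
    (hinn : ∀ k : Cfsg.POmega F ⇑(QMn m a b), MulAut.conj k ∈ A)
    (x : MulAut (Cfsg.POmega F ⇑(QMn m a b))) (hord : orderOf x = 2)
    (hnot : x ∉ inndiagQM ⇑(QMn m a b) (Cfsg.PreservesSingularClassesMinus m a b))
    (N : Subgroup (MulAut (Cfsg.POmega F ⇑(QMn m a b)))) (hN : HasCore 2 A x N) : False := by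
  classical
  have h2 : (2 : F) ≠ 0 := by
    intro h
    have h3 : ((2 : ℕ) : F) = 0 := by exact_mod_cast h
    rw [CharP.cast_eq_zero_iff F r] at h3
    exact hr2 ((Nat.prime_dvd_prime_iff_eq Fact.out Nat.prime_two).1 h3)
  have hodd := odd_card_of_two_ne_zero h2
  have hQ := QMn_nondeg (F := F) m a b hab
  have hQ0 := QMn_ne_zero (F := F) m a b
  have hcard := PGO.card_minus m
  have hn : 7 ≤ Fintype.card ((Fin m ⊕ Fin m) ⊕ Fin 2) := by rw [card_minus_index]; omega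
  obtain ⟨f, -, hF⟩ := FiniteField.card F r
  have hxx : x * x = 1 := by
    have := pow_orderOf_eq_one x
    rw [hord, pow_two] at this
    exact this
  have hxP := minus_invol_mem_pgo (p := r) (f := f) f.pos hF hr2 hm a b hab x hxx
  rw [pgoAut_eq] at hxP
  obtain ⟨g₀, rfl⟩ := hxP
  rw [inndiag_minus hodd a b hab] at hnot
  have heps : epsHom (QMn m a b) hQ0 (m + 1) g₀ ≠ 1 := fun h =>
    hnot ((Phi_mem_idg_iff hQ hQ0 hcard h2 hn g₀).2 h)
  exact no_core_graph r h2 hQ hQ0 hcard hn (lag_minus a b hab) g₀ heps hxx A hinn N hN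

end Minus

end Cfsg.Agent.Lib.Helper5.GInv
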