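import Mathlib
import Cfsg.Agent.Lib.Helper5.GInv.Minus1
import Cfsg.Agent.Lib.Helper5.OFld41
import Cfsg.Agent.Lib.Helper5.OFld48

set_option autoImplicit false

/-! The minus type orthogonal groups: field automorphisms and the local balance criterion. -/

namespace Cfsg.Agent.Lib.Helper5.GInv

open Matrix QuadraticMap
open Cfsg.Agent.Lib.Helper5.PGO Cfsg.Agent.Lib.Helper5.OAut Cfsg.Agent.Lib.Helper5.OFld
open Cfsg.Agent.Lib.Helper5.PSpBal Cfsg.Agent.Lib.Helper5.PSLCoset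
open Cfsg.Agent.Lib.Helper2 Cfsg.Agent.Lib.Helper2.OrthCard
open Cfsg.Agent.Lib.Helper5.OrthCls

section Minus
variable {F : Type*} [Field F] [Fintype F] {m : ℕ}

/-- a field automorphism with a number of fixed points prime to `p` has a nontrivial core -/
theorem core_of_field_minus (hm : 3 ≤ m) (a b : F)
    (hab : ∀ z₁ z₂ : F, z₁ ^ 2 + a * z₁ * z₂ + b * z₂ ^ 2 = 0 → z₁ = 0 ∧ z₂ = 0)
    (A : Subgroup (MulAut (Cfsg.POmega F ⇑(QMn m a b))))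
    (hinn : ∀ k : Cfsg.POmega F ⇑(QMn m a b), MulAut.conj k ∈ A) (p : ℕ)
    (x : MulAut (Cfsg.POmega F ⇑(QMn m a b))) (a' b' : F)
    (hab' : ∀ z₁ z₂ : F, z₁ ^ 2 + a' * z₁ * z₂ + b' * z₂ ^ 2 = 0 → z₁ = 0 ∧ z₂ = 0)
    (ψ : Cfsg.POmega F ⇑(QMn m a b) ≃* Cfsg.POmega F ⇑(QMn m a' b')) (σ : F ≃+* F)
    (hσa : σ a' = a') (hσb : σ b' = b')
    (hfield : Cfsg.IsFieldAutPOmegaOf (⇑(QMn m a' b')) σ ((ψ.symm.trans x).trans ψ))
    (hcop : Nat.Coprime p (Nat.card ↥(MonoidHom.eqLocus x.toMonoidHom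
      (MonoidHom.id (Cfsg.POmega F ⇑(QMn m a b)))))) :
    Cfsg.pPrimeCore p ↥(A ⊓ Subgroup.centralizer {x}) ≠ ⊥ := by
  classical
  have hQ := QMn_nondeg (F := F) m a b hab
  have hn : 7 ≤ Fintype.card ((Fin m ⊕ Fin m) ⊕ Fin 2) := by rw [card_minus_index]; omega
  have hn6 : 6 ≤ Fintype.card ((Fin m ⊕ Fin m) ⊕ Fin 2) := by omega
  have hc := conj_injective_POmega hQ hn
  have hstd := pair_std_minus m a' b' σ hσa hσb
  have hx' : MulAut.congr ψ x = PhiS 1 σ hstd := (isFieldAut_iff' hstd _).1 hfield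
  haveI : Fintype ↥(fixF σ) := Fintype.ofFinite _
  obtain ⟨a₀, ha₀⟩ : ∃ a₀ : ↥(fixF σ), (fixF σ).subtype a₀ = a' := ⟨⟨a', hσa⟩, rfl⟩
  obtain ⟨b₀, hb₀⟩ : ∃ b₀ : ↥(fixF σ), (fixF σ).subtype b₀ = b' := ⟨⟨b', hσb⟩, rfl⟩
  subst ha₀
  subst hb₀
  have hab₀ := aniso_of_map (fixF σ).subtype a₀ b₀ hab'
  have hQ₀ := QMn_nondeg (F := ↥(fixF σ)) m a₀ b₀ hab₀
  have hcompat := QMn_extV (fixF σ).subtype m a₀ b₀
  haveI hsimple : IsSimpleGroup (Cfsg.POmega ↥(fixF σ) ⇑(QMn m a₀ b₀)) :=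
    LongRoot.simple_POmega hQ₀ hn
  obtain ⟨y, hy⟩ := exists_ne (1 : Cfsg.POmega ↥(fixF σ) ⇑(QMn m a₀ b₀))
  have hne : ∃ k : Cfsg.POmega F ⇑(QMn m a b), k ≠ 1 ∧ x k = k := by
    refine ⟨ψ.symm (psiP hQ₀ hn6 (fixF σ).subtype hcompat y), ?_, ?_⟩
    · intro h0
      apply hy
      apply psiP_injective (Q := QMn m ((fixF σ).subtype a₀) ((fixF σ).subtype b₀))
        hQ₀ hn6 (fixF σ).subtype hcompat
      have := congrArg ψ h0
      rw [MulEquiv.apply_symm_apply, map_one] at this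
      rw [this, map_one]
    · have h1 := std_fix_psiP hQ₀ hn6 (fixF_range σ) hcompat hstd y
      rw [← hx', congr_apply] at h1
      have := congrArg ψ.symm h1
      rw [MulEquiv.symm_apply_apply] at this
      exact this
  exact core_ne_bot_of_hasCore p A x (hasCore_of_fix hc p A hinn x hne (Nat.Coprime.symm hcop))

set_option maxHeartbeats 1600000 in
/-- an automorphism of odd prime order not induced by a similarity whose centralizer has a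
nontrivial core is a field automorphism with a number of fixed points prime to `p` -/
theorem field_of_core_minus (r : ℕ) [Fact r.Prime] [CharP F r] (hm : 3 ≤ m) (a b : F)
    (hab : ∀ z₁ z₂ : F, z₁ ^ 2 + a * z₁ * z₂ + b * z₂ ^ 2 = 0 → z₁ = 0 ∧ z₂ = 0)
    (A : Subgroup (MulAut (Cfsg.POmega F ⇑(QMn m a b))))
    (hinn : ∀ k : Cfsg.POmega F ⇑(QMn m a b), MulAut.conj k ∈ A) {p : ℕ} [Fact p.Prime]
    (hpr : p ≠ r) (hp2 : p ≠ 2)
    (x : MulAut (Cfsg.POmega F ⇑(QMn m a b))) (hord : orderOf x = p)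
    (hxP : x ∉ Cfsg.pgoAut F ⇑(QMn m a b))
    (h : Cfsg.pPrimeCore p ↥(A ⊓ Subgroup.centralizer {x}) ≠ ⊥) :
    (∃ (a' b' : F) (ψ : Cfsg.POmega F ⇑(QMn m a b) ≃* Cfsg.POmega F ⇑(QMn m a' b'))
      (σ : F ≃+* F),
      (∀ z₁ z₂ : F, z₁ ^ 2 + a' * z₁ * z₂ + b' * z₂ ^ 2 = 0 → z₁ = 0 ∧ z₂ = 0) ∧
      σ ≠ RingEquiv.refl F ∧ σ a' = a' ∧ σ b' = b' ∧
      Cfsg.IsFieldAutPOmegaOf (⇑(QMn m a' b')) σ ((ψ.symm.trans x).trans ψ)) ∧
    Nat.Coprime p (Nat.card ↥(MonoidHom.eqLocus x.toMonoidHom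
      (MonoidHom.id (Cfsg.POmega F ⇑(QMn m a b))))) := by
  classical
  haveI := finite_POmega (Q := QMn m a b)
  have hp : p.Prime := Fact.out
  have hQ := QMn_nondeg (F := F) m a b hab
  have hn : 7 ≤ Fintype.card ((Fin m ⊕ Fin m) ⊕ Fin 2) := by rw [card_minus_index]; omega
  have hLag := lag_minus (k := m) a b hab
  have hxp : x ^ p = 1 := by rw [← hord]; exact pow_orderOf_eq_one x
  obtain ⟨N, hN⟩ := exists_hasCore p A x h
  obtain ⟨τ, g, hg, hx⟩ := exists_pair r hQ hn hLag x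
  have hτ1 : τ ≠ 1 := by
    rintro rfl
    apply hxP
    rw [hx, PhiS_one_eq ⟨g, GO_of_pair hg⟩ hg, pgoAut_eq]
    exact ⟨_, rfl⟩
  have hτp : τ ^ p = 1 := by
    have h1 := congrArg (Theta r hQ hn hLag) hxp
    rw [map_pow, map_one, hx, Theta_PhiS] at h1
    exact h1
  have hτord : orderOf τ = p := by
    have h1 : orderOf τ ∣ p := orderOf_dvd_of_pow_eq_one hτp
    rcases (Nat.dvd_prime hp).1 h1 with h2 | h2
    · exact absurd (orderOf_eq_one_iff.1 h2) hτ1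
    · exact h2
  have hpodd : Odd p := hp.eq_two_or_odd'.resolve_left hp2
  -- coefficients over the fixed field
  haveI : Fintype ↥(fixF τ) := Fintype.ofFinite _
  obtain ⟨ζ, hζ⟩ := exists_aniso (F := ↥(fixF τ))
  have haniso' := aniso_of_fixed_odd (fixF τ).subtype τ (fixF_range τ) p hτp hpodd 1 ζ hζ
  have ha' : τ ((fixF τ).subtype 1) = (fixF τ).subtype 1 := (1 : ↥(fixF τ)).2
  have hb' : τ ((fixF τ).subtype ζ) = (fixF τ).subtype ζ := ζ.2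
  have hQ' := QMn_nondeg (F := F) m ((fixF τ).subtype 1) ((fixF τ).subtype ζ) haniso'
  -- an isometry between the two forms
  have heven : Even (Module.finrank F ((Fin m ⊕ Fin m) ⊕ Fin 2 → F)) := by
    rw [Module.finrank_fintype_fun_eq_card, card_minus_index]
    exact ⟨m + 1, by ring⟩
  obtain ⟨E, hE⟩ := iso_of_type (QMn m a b) (QMn m ((fixF τ).subtype 1) ((fixF τ).subtype ζ))
    hQ hQ' rfl heven
    (iff_of_false (not_isPlus_QMn m a b hab) (not_isPlus_QMn m _ _ haniso'))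
  obtain ⟨t, ht⟩ := exists_GL_of_linearEquiv E
  have ht' : ∀ v, QMn m ((fixF τ).subtype 1) ((fixF τ).subtype ζ) ((t : Matrix _ _ F) *ᵥ v) =
      QMn m a b v := by
    intro v
    rw [ht, hE]
  obtain ⟨ψ, hψ⟩ : ∃ ψ : Cfsg.POmega F ⇑(QMn m a b) ≃*
      Cfsg.POmega F ⇑(QMn m ((fixF τ).subtype 1) ((fixF τ).subtype ζ)),
      ψ = psiT t ht' := ⟨_, rfl⟩
  have hp' := pair_conj_form (Q := ⇑(QMn m ((fixF τ).subtype 1) ((fixF τ).subtype ζ))) t ht' hg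
  have hx' : MulAut.congr ψ x = PhiS (t * g * mapGL τ t⁻¹) τ hp' := by
    rw [hx, hψ]
    exact congr_psiT_PhiS t ht' hg hp'
  have hstd := pair_std_minus m ((fixF τ).subtype 1) ((fixF τ).subtype ζ) τ ha' hb'
  have hpow : (PhiS (t * g * mapGL τ t⁻¹) τ hp') ^ p = 1 := by
    rw [← hx', ← map_pow, hxp]
    exact map_one _
  obtain ⟨h', hh'⟩ := field_conj_minus hm _ _ haniso' τ ha' hb' p hτord hp.pos hstd _ hp' hpow
  obtain ⟨α, hα⟩ : ∃ α : MulAut (Cfsg.POmega F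
      ⇑(QMn m ((fixF τ).subtype 1) ((fixF τ).subtype ζ))),
      α = (Phi (⇑(QMn m ((fixF τ).subtype 1) ((fixF τ).subtype ζ))) h')⁻¹ := ⟨_, rfl⟩
  obtain ⟨ψ₂, hψ₂⟩ : ∃ ψ₂ : Cfsg.POmega F ⇑(QMn m a b) ≃*
      Cfsg.POmega F ⇑(QMn m ((fixF τ).subtype 1) ((fixF τ).subtype ζ)),
      ψ₂ = ψ.trans α := ⟨_, rfl⟩
  have hx₂ : MulAut.congr ψ₂ x = PhiS 1 τ hstd := by
    have e1 : MulAut.congr ψ₂ x = α * MulAut.congr ψ x * α⁻¹ := by
      rw [hψ₂]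
      apply MulEquiv.ext
      intro y
      rfl
    rw [e1, hx', hh', hα]
    group
  have hfield : Cfsg.IsFieldAutPOmegaOf (⇑(QMn m ((fixF τ).subtype 1) ((fixF τ).subtype ζ))) τ
      ((ψ₂.symm.trans x).trans ψ₂) := (isFieldAut_iff' hstd _).2 hx₂
  refine ⟨⟨_, _, ψ₂, τ, haniso', hτ1, ha', hb', hfield⟩, ?_⟩
  rw [Nat.Prime.coprime_iff_not_dvd hp]
  intro hdvd
  have hN' := HasCore.map_equiv hN (MulAut.congr ψ₂)
  rw [hx₂] at hN'
  have hinn' : ∀ k' : Cfsg.POmega F ⇑(QMn m ((fixF τ).subtype 1) ((fixF τ).subtype ζ)),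
      MulAut.conj k' ∈ A.map (MulAut.congr ψ₂).toMonoidHom := by
    intro k'
    refine ⟨MulAut.conj (ψ₂.symm k'), hinn _, ?_⟩
    show MulAut.congr ψ₂ (MulAut.conj (ψ₂.symm k')) = MulAut.conj k'
    rw [congr_conj, MulEquiv.apply_symm_apply]
  have hdvd' : p ∣ Nat.card ↥(MonoidHom.eqLocus (PhiS 1 τ hstd).toMonoidHom
      (MonoidHom.id (Cfsg.POmega F ⇑(QMn m ((fixF τ).subtype 1) ((fixF τ).subtype ζ))))) := by
    rw [← hx₂, card_fix_congr]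
    exact hdvd
  have hQ₀ := QMn_nondeg (F := ↥(fixF τ)) m 1 ζ hζ
  have hcompat := QMn_extV (fixF τ).subtype m (1 : ↥(fixF τ)) ζ
  exact no_core_orth_of_sq p r hpr hp2 (sq_mem_Omega_all hQ₀ (by omega)) hQ' hQ₀ hn
    (lag_minus _ _ haniso') (fixF_range τ) hτord hcompat hstd _ hinn' hdvd' _ hN'

/-- the local balance criterion for the minus type orthogonal groups -/
theorem balance_minus (r : ℕ) [Fact r.Prime] [CharP F r] (hm : 3 ≤ m) (a b : F)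
    (hab : ∀ z₁ z₂ : F, z₁ ^ 2 + a * z₁ * z₂ + b * z₂ ^ 2 = 0 → z₁ = 0 ∧ z₂ = 0)
    (A : Subgroup (MulAut (Cfsg.POmega F ⇑(QMn m a b))))
    (hinn : ∀ k : Cfsg.POmega F ⇑(QMn m a b), MulAut.conj k ∈ A) {p : ℕ} [Fact p.Prime]
    (hpr : p ≠ r)
    (x : MulAut (Cfsg.POmega F ⇑(QMn m a b))) (hord : orderOf x = p)
    (hnot : ¬ ∃ g : GL ((Fin m ⊕ Fin m) ⊕ Fin 2) F,
      g ∈ Cfsg.Geo.quadSimilarityGroup (F := F) ⇑(QMn m a b) ∧
      Cfsg.PreservesSingularClassesMinus m a b (g : Matrix _ _ F) ∧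
      Cfsg.IsInducedBySemilinearPOmega ⇑(QMn m a b) g (RingEquiv.refl F) x) :
    Cfsg.pPrimeCore p ↥(A ⊓ Subgroup.centralizer {x}) ≠ ⊥ ↔
    ((∃ (a' b' : F) (ψ : Cfsg.POmega F ⇑(QMn m a b) ≃* Cfsg.POmega F ⇑(QMn m a' b'))
      (σ : F ≃+* F),
      (∀ z₁ z₂ : F, z₁ ^ 2 + a' * z₁ * z₂ + b' * z₂ ^ 2 = 0 → z₁ = 0 ∧ z₂ = 0) ∧
      σ ≠ RingEquiv.refl F ∧ σ a' = a' ∧ σ b' = b' ∧
      Cfsg.IsFieldAutPOmegaOf (⇑(QMn m a' b')) σ ((ψ.symm.trans x).trans ψ)) ∧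
    Nat.Coprime p (Nat.card ↥(MonoidHom.eqLocus x.toMonoidHom
      (MonoidHom.id (Cfsg.POmega F ⇑(QMn m a b)))))) := by
  classical
  haveI := finite_POmega (Q := QMn m a b)
  have hp : p.Prime := Fact.out
  have hxI : x ∉ inndiagQM ⇑(QMn m a b) (Cfsg.PreservesSingularClassesMinus m a b) :=
    fun h => hnot (minus_innerdiag_of_mem hm a b hab h)
  by_cases hp2 : p = 2
  · subst hp2
    constructor
    · intro h
      obtain ⟨N, hN⟩ := exists_hasCore 2 A x h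
      exact (no_core_minus_two r (fun h => hpr h.symm) hm a b hab A hinn x hord hxI N hN).elim
    · rintro ⟨⟨a', b', ψ, σ, hab', -, hσa, hσb, hfield⟩, -⟩
      exact (not_field_of_order_two r hm a b a' b' hab' ψ σ hσa hσb x hfield hord).elim
  · have hxP := not_mem_pgo_of_odd hm a b hab x hp hp2 hord hxI
    constructor
    · exact field_of_core_minus r hm a b hab A hinn hpr hp2 x hord hxP
    · rintro ⟨⟨a', b', ψ, σ, hab', -, hσa, hσb, hfield⟩, hcop⟩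
      exact core_of_field_minus hm a b hab A hinn p x a' b' hab' ψ σ hσa hσb hfield hcop

end Minus

end Cfsg.Agent.Lib.Helper5.GInv
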